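import Cfsg.Agent.Lib.Invol.SelfEightType.Model
import Cfsg.Agent.Lib.Invol.Sylow

/-!
Coordinates on a group of order 64 with a self-centralising element of order 8 conjugate to its odd powers.
-/

set_option autoImplicit false
set_option linter.style.haveILetI false
set_option linter.unusedSectionVars false

namespace Cfsg.Agent.Invol.SelfEightType

open Subgroup

universe u

variable {G : Type u} [Group G]

/-- Generators with relations. -/
structure Gens (G : Type u) [Group G] where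
  par : Par
  f : G
  v : G
  b : G
  c : G
  f8 : f ^ 8 = 1
  v2 : v * v = 1
  vf : v * f = f ^ 5 * v
  bf : b * f = f ^ 7 * b
  bv : b * v = v * b
  cf : c * f = f * v * c
  cv : c * v = v * c
  b2 : b * b = f ^ (if par.1 then 4 else 0)
  c2 : c * c = f ^ (if par.2.1 then 4 else 0)
  cb : c * b = f ^ (if par.2.2 then 2 else 0) * v * b * c

namespace Gens

variable (d : Gens G)

/-- The element of an index. -/
def elt (n : Fin 64) : G :=
  d.f ^ (n.val % 8) * d.v ^ (n.val / 8 % 2) * d.b ^ (n.val / 16 % 2) * d.c ^ (n.val / 32)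

theorem pow_f (n : ℕ) : d.f ^ n = d.f ^ (n % 8) := by
  conv_lhs => rw [← Nat.mod_add_div n 8, pow_add, pow_mul, d.f8, one_pow, mul_one]

theorem pow_v (n : ℕ) : d.v ^ n = d.v ^ (n % 2) := by
  conv_lhs => rw [← Nat.mod_add_div n 2, pow_add, pow_mul, pow_two, d.v2, one_pow, mul_one]

theorem v_pow_f (e j : ℕ) (he : e < 2) : d.v ^ e * d.f ^ j = d.f ^ (j * if e = 1 then 5 else 1) * d.v ^ e := by
  interval_cases e
  · simp
  · simp only [pow_one, ↓reduceIte]
    rw [(SemiconjBy.pow_right (show SemiconjBy d.v d.f (d.f ^ 5) from d.vf) j).eq, ← pow_mul, mul_comm 5]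

theorem fv_pow (j : ℕ) : (d.f * d.v) ^ j = d.f ^ (6 * (j / 2) + j % 2) * d.v ^ (j % 2) := by
  have h2 : (d.f * d.v) ^ 2 = d.f ^ 6 := by
    rw [pow_two, show d.f * d.v * (d.f * d.v) = d.f * (d.v * d.f) * d.v by group, d.vf,
      show d.f * (d.f ^ 5 * d.v) * d.v = d.f * d.f ^ 5 * (d.v * d.v) by group, d.v2, mul_one, ← pow_succ']
  conv_lhs => rw [← Nat.div_add_mod j 2, pow_add, pow_mul, h2, ← pow_mul]
  rcases Nat.mod_two_eq_zero_or_one j with h | h <;> rw [h]
  · simp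
  · rw [pow_one, pow_add, pow_one, pow_one, mul_assoc]

theorem b_E (B j e : ℕ) (hB : B < 2) :
    d.b ^ B * (d.f ^ j * d.v ^ e) = d.f ^ (if B = 1 then 7 * j else j) * d.v ^ e * d.b ^ B := by
  interval_cases B
  · simp
  · simp only [pow_one, ↓reduceIte]
    rw [← mul_assoc, (SemiconjBy.pow_right (show SemiconjBy d.b d.f (d.f ^ 7) from d.bf) j).eq, ← pow_mul,
      mul_assoc, ((show Commute d.b d.v from d.bv).pow_right e).eq, ← mul_assoc]

theorem c_E (C j e : ℕ) (hC : C < 2) :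
    d.c ^ C * (d.f ^ j * d.v ^ e) = d.f ^ (if C = 1 then 6 * (j / 2) + j % 2 else j) *
      d.v ^ (if C = 1 then e + j % 2 else e) * d.c ^ C := by
  interval_cases C
  · simp
  · simp only [pow_one, ↓reduceIte]
    rw [← mul_assoc, (SemiconjBy.pow_right (show SemiconjBy d.c d.f (d.f * d.v) from d.cf) j).eq, d.fv_pow,
      mul_assoc, ((show Commute d.c d.v from d.cv).pow_right e).eq, ← mul_assoc, add_comm e, pow_add _ (j % 2) e]
    simp only [mul_assoc]

theorem z_comm : Commute (d.f ^ 4) d.v ∧ Commute (d.f ^ 4) d.b ∧ Commute (d.f ^ 4) d.c := by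
  refine ⟨?_, ?_, ?_⟩
  · have := d.v_pow_f 1 4 (by norm_num)
    simp only [pow_one, ↓reduceIte] at this
    show d.f ^ 4 * d.v = d.v * d.f ^ 4
    rw [this, d.pow_f (4 * 5)]
  · have := d.b_E 1 4 0 (by norm_num)
    simp only [pow_one, ↓reduceIte, pow_zero, mul_one] at this
    show d.f ^ 4 * d.b = d.b * d.f ^ 4
    rw [this, d.pow_f (7 * 4)]
  · have := d.c_E 1 4 0 (by norm_num)
    simp only [pow_one, ↓reduceIte, pow_zero, mul_one] at this
    show d.f ^ 4 * d.c = d.c * d.f ^ 4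
    rw [this, d.pow_f (6 * (4 / 2) + 4 % 2), show (0 + 4 % 2 : ℕ) = 0 from rfl, pow_zero, mul_one]

theorem c_b (C B : ℕ) (hC : C < 2) (hB : B < 2) :
    d.c ^ C * d.b ^ B = d.f ^ (if C = 1 ∧ B = 1 then (if d.par.2.2 then 2 else 0) else 0) *
      d.v ^ (if C = 1 ∧ B = 1 then 1 else 0) * d.b ^ B * d.c ^ C := by
  interval_cases C <;> interval_cases B <;> simp [d.cb]

theorem elt_mul (n m : Fin 64) : d.elt n * d.elt m = d.elt (mulJ d.par n m) := by
  have hn : n.val < 64 := n.isLt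
  have hm : m.val < 64 := m.isLt
  simp only [elt]
  set i := n.val % 8 with hi
  set e := n.val / 8 % 2 with he
  set B := n.val / 16 % 2 with hB
  set C := n.val / 32 with hC
  set j := m.val % 8 with hj
  set g := m.val / 8 % 2 with hg
  set B' := m.val / 16 % 2 with hB'
  set C' := m.val / 32 with hC'
  set j1 := if C = 1 then 6 * (j / 2) + j % 2 else j with hj1
  set g1 := if C = 1 then g + j % 2 else g with hg1
  set j2 := if B = 1 then 7 * j1 else j1 with hj2
  set r := i + j2 * (if e = 1 then 5 else 1) with hr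
  set re := (e + g1) % 2 with hre
  set kk := if C = 1 ∧ B' = 1 then (if d.par.2.2 then 2 else 0) else 0 with hkk
  set kv := if C = 1 ∧ B' = 1 then 1 else 0 with hkv
  set K := if B = 1 then 7 * kk else kk with hK
  set r1 := r + K * (if re = 1 then 5 else 1) with hr1
  set re1 := re + kv with hre1
  have hBB : d.b ^ B * d.b ^ B' = d.f ^ (if d.par.1 = true ∧ B + B' = 2 then 4 else 0) * d.b ^ ((B + B') % 2) := by
    rcases Nat.mod_two_eq_zero_or_one (n.val / 16) with h | h <;>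
      rcases Nat.mod_two_eq_zero_or_one (m.val / 16) with h' | h' <;> rw [hB, hB', h, h'] <;> simp [d.b2]
  have hCC : d.c ^ C * d.c ^ C' = d.f ^ (if d.par.2.1 = true ∧ C + C' = 2 then 4 else 0) * d.c ^ ((C + C') % 2) := by
    rcases (show C = 0 ∨ C = 1 by omega) with h | h <;> rcases (show C' = 0 ∨ C' = 1 by omega) with h' | h' <;>
      rw [h, h'] <;> simp [d.c2]
  set zb := if d.par.1 = true ∧ B + B' = 2 then 4 else 0 with hzb
  set zc := if d.par.2.1 = true ∧ C + C' = 2 then 4 else 0 with hzc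
  have hzb4 : zb = 4 * (zb / 4) := by rw [hzb]; split_ifs <;> norm_num
  have hzc4 : zc = 4 * (zc / 4) := by rw [hzc]; split_ifs <;> norm_num
  have hzv : Commute (d.f ^ zb) (d.v ^ re1) := by rw [hzb4, pow_mul]; exact d.z_comm.1.pow_pow _ _
  have hzb' : Commute (d.f ^ zc) (d.b ^ ((B + B') % 2)) := by rw [hzc4, pow_mul]; exact d.z_comm.2.1.pow_pow _ _
  have hzv' : Commute (d.f ^ zc) (d.v ^ re1) := by rw [hzc4, pow_mul]; exact d.z_comm.1.pow_pow _ _
  have hval : (mulJ d.par n m).val =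
      (r1 + zb + zc) % 8 + 8 * (re1 % 2) + 16 * ((B + B') % 2) + 32 * ((C + C') % 2) := by
    have hrr : (if C = 1 ∧ B' = 1 then r + (if d.par.2.2 then (if B = 1 then 7 * 2 else 2) else 0) *
        (if re = 1 then 5 else 1) else r) = r1 := by
      rw [hr1, hK, hkk]
      by_cases hcb : C = 1 ∧ B' = 1
      · by_cases hb1 : B = 1 <;> cases d.par.2.2 <;> simp [hcb, hb1]
      · simp [hcb]
    have hree : (if C = 1 ∧ B' = 1 then re + 1 else re) = re1 := by
      rw [hre1, hkv]; split_ifs <;> rfl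
    simp only [mulJ, ← hi, ← he, ← hB, ← hC, ← hj, ← hg, ← hB', ← hC']
    rw [← hj1, ← hg1, ← hj2, ← hr, ← hre, hrr, hree, ← hzb, ← hzc]
    omega
  rw [hval,
    show ((r1 + zb + zc) % 8 + 8 * (re1 % 2) + 16 * ((B + B') % 2) + 32 * ((C + C') % 2)) % 8 = (r1 + zb + zc) % 8 by omega,
    show ((r1 + zb + zc) % 8 + 8 * (re1 % 2) + 16 * ((B + B') % 2) + 32 * ((C + C') % 2)) / 8 % 2 = re1 % 2 by omega,
    show ((r1 + zb + zc) % 8 + 8 * (re1 % 2) + 16 * ((B + B') % 2) + 32 * ((C + C') % 2)) / 16 % 2 = (B + B') % 2 by omega,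
    show ((r1 + zb + zc) % 8 + 8 * (re1 % 2) + 16 * ((B + B') % 2) + 32 * ((C + C') % 2)) / 32 = (C + C') % 2 by omega,
    ← d.pow_f (r1 + zb + zc), ← d.pow_v re1]
  calc d.f ^ i * d.v ^ e * d.b ^ B * d.c ^ C * (d.f ^ j * d.v ^ g * d.b ^ B' * d.c ^ C')
      = d.f ^ i * d.v ^ e * d.b ^ B * (d.c ^ C * (d.f ^ j * d.v ^ g)) * d.b ^ B' * d.c ^ C' := by group
    _ = d.f ^ i * d.v ^ e * (d.b ^ B * (d.f ^ j1 * d.v ^ g1)) * (d.c ^ C * d.b ^ B') * d.c ^ C' := by
      rw [d.c_E C j g (by omega), ← hj1, ← hg1]; group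
    _ = d.f ^ i * (d.v ^ e * d.f ^ j2) * d.v ^ g1 * (d.b ^ B * (d.f ^ kk * d.v ^ kv)) * d.b ^ B' *
          (d.c ^ C * d.c ^ C') := by
      rw [d.b_E B j1 g1 (by omega), ← hj2, d.c_b C B' (by omega) (by omega), ← hkk, ← hkv]; group
    _ = d.f ^ r * (d.v ^ (e + g1) * d.f ^ K) * d.v ^ kv * (d.b ^ B * d.b ^ B') * (d.c ^ C * d.c ^ C') := by
      rw [d.v_pow_f e j2 (by omega), d.b_E B kk kv (by omega), ← hK, hr, pow_add, pow_add]; group
    _ = d.f ^ r1 * d.v ^ re1 * (d.f ^ zb * d.b ^ ((B + B') % 2)) * (d.f ^ zc * d.c ^ ((C + C') % 2)) := by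
      rw [d.pow_v (e + g1), ← hre, d.v_pow_f re K (by omega), hBB, hCC]
      simp only [hr1, hre1, hr, pow_add, mul_assoc]
    _ = d.f ^ r1 * (d.v ^ re1 * d.f ^ zb) * (d.b ^ ((B + B') % 2) * d.f ^ zc) * d.c ^ ((C + C') % 2) := by group
    _ = d.f ^ r1 * (d.f ^ zb * (d.v ^ re1 * d.f ^ zc)) * d.b ^ ((B + B') % 2) * d.c ^ ((C + C') % 2) := by
      rw [← hzv.eq, ← hzb'.eq]; group
    _ = _ := by rw [← hzv'.eq]; simp only [pow_add, mul_assoc]

end Gens

/-- Coordinates on a subgroup. -/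
structure Coord (S : Subgroup G) where
  par : Par
  el : Fin 64 → G
  inj : Function.Injective el
  mul : ∀ n m, el n * el m = el (mulJ par n m)
  mem : ∀ g, g ∈ S ↔ ∃ n, el n = g

theorem exists_coord [Finite G] (P : Subgroup G) (hP : Nat.card P = 64) {f : G} (hfP : f ∈ P) (hf : orderOf f = 8)
    (hself : ∀ x ∈ P, x * f = f * x → x ∈ Subgroup.zpowers f)
    (hodd : ∀ k ∈ ({3, 5, 7} : Set ℕ), ∃ x ∈ P, x * f * x⁻¹ = f ^ k) : Nonempty (Coord P) := by
  classical
  have hf8 : f ^ 8 = 1 := by rw [← hf, pow_orderOf_eq_one]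
  have hpf : ∀ n, f ^ n = f ^ (n % 8) := fun n => by
    conv_lhs => rw [← Nat.mod_add_div n 8, pow_add, pow_mul, hf8, one_pow, mul_one]
  have hfinj : ∀ a b : ℕ, f ^ a = f ^ b → a % 8 = b % 8 := fun a b h => by
    rwa [pow_eq_pow_iff_modEq, hf] at h
  have hcent : ∀ x ∈ P, x * f = f * x → ∃ i, i < 8 ∧ x = f ^ i := fun x hx hc => by
    obtain ⟨k, hk⟩ := (mem_powers_iff_mem_zpowers (x := f)).2 (hself x hx hc)
    exact ⟨k % 8, Nat.mod_lt _ (by norm_num), by rw [← hpf]; exact hk.symm⟩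
  have hsemi : ∀ {x : G} {k : ℕ}, x * f = f ^ k * x → ∀ i : ℕ, x * f ^ i = f ^ (k * i) * x := fun {x k} h i => by
    rw [(SemiconjBy.pow_right (show SemiconjBy x f (f ^ k) from h) i).eq, ← pow_mul]
  -- the element `v`
  obtain ⟨v0, hv0P, hv0⟩ := hodd 5 (by simp)
  rw [mul_inv_eq_iff_eq_mul] at hv0
  obtain ⟨t, ht, hvv⟩ := hcent (v0 * v0) (mul_mem hv0P hv0P) (by
    rw [mul_assoc, hv0, ← mul_assoc, hsemi hv0, mul_assoc, hpf (5 * 5), pow_one])
  have hteven : t % 2 = 0 := by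
    have h1 : v0 * f ^ t = f ^ t * v0 := by rw [← hvv, mul_assoc]
    rw [hsemi hv0, mul_left_inj] at h1
    have := hfinj _ _ h1
    omega
  obtain ⟨v, hvP, hv2, hvf⟩ : ∃ v ∈ P, v * v = 1 ∧ v * f = f ^ 5 * v := by
    refine ⟨f ^ (t / 2) * v0, mul_mem (pow_mem hfP _) hv0P, ?_, ?_⟩
    · rw [mul_assoc, ← mul_assoc v0, hsemi hv0, mul_assoc, hvv, ← pow_add, ← pow_add, hpf,
        show (t / 2 + (5 * (t / 2) + t)) % 8 = 0 by omega, pow_zero]
    · rw [mul_assoc, hv0, ← mul_assoc, ← mul_assoc, ← pow_add, ← pow_add, add_comm]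
  -- the element `b`
  obtain ⟨b0, hb0P, hb0⟩ := hodd 7 (by simp)
  rw [mul_inv_eq_iff_eq_mul] at hb0
  obtain ⟨j0, hj0, hbb⟩ := hcent (b0 * b0) (mul_mem hb0P hb0P) (by
    rw [mul_assoc, hb0, ← mul_assoc, hsemi hb0, mul_assoc, hpf (7 * 7), pow_one])
  have hj04 : j0 = 0 ∨ j0 = 4 := by
    have h1 : b0 * f ^ j0 = f ^ j0 * b0 := by rw [← hbb, mul_assoc]
    rw [hsemi hb0, mul_left_inj] at h1
    have := hfinj _ _ h1
    omega
  have hvsq : ∀ i : ℕ, (f ^ i * v) * (f ^ i * v) = f ^ (6 * i) := fun i => by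
    rw [mul_assoc, ← mul_assoc v, hsemi hvf, mul_assoc, hv2, mul_one, ← pow_add]; congr 1; ring
  have hfv_comm : ∀ i : ℕ, i % 2 = 0 → v * f ^ i = f ^ i * v := fun i hi => by
    rw [hsemi hvf, hpf (5 * i), show (5 * i) % 8 = i % 8 by omega, ← hpf]
  obtain ⟨b1, hb1P, hb1f, hb1v, hb1b⟩ : ∃ b ∈ P, b * f = f ^ 7 * b ∧ b * v = v * b ∧
      ∃ j, (j = 0 ∨ j = 4) ∧ b * b = f ^ j := by
    set v' := b0 * v * b0⁻¹ with hv'
    have hv'P : v' ∈ P := mul_mem (mul_mem hb0P hvP) (inv_mem hb0P)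
    have hb0i : b0⁻¹ * f = f ^ 7 * b0⁻¹ := by
      rw [inv_mul_eq_iff_eq_mul, ← mul_assoc, hsemi hb0, mul_assoc, mul_inv_cancel, mul_one, hpf (7 * 7), pow_one]
    have hv'f : v' * f = f ^ 5 * v' := by
      rw [hv', mul_assoc, hb0i, ← mul_assoc, mul_assoc b0, hsemi hvf, ← mul_assoc b0, hsemi hb0, hpf]
      simp only [mul_assoc, show (7 * (5 * 7)) % 8 = 5 by norm_num]
    obtain ⟨i, hi, hie⟩ := hcent (v' * v) (mul_mem hv'P hvP) (by
      rw [mul_assoc, hvf, ← mul_assoc, hsemi hv'f, mul_assoc, hpf (5 * 5), pow_one])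
    have hv'e : v' = f ^ i * v := by rw [← hie, mul_assoc, hv2, mul_one]
    have h2 : v' * v' = 1 := by
      rw [hv', show b0 * v * b0⁻¹ * (b0 * v * b0⁻¹) = b0 * (v * v) * b0⁻¹ by group, hv2, mul_one, mul_inv_cancel]
    rw [hv'e, hvsq, ← pow_zero f] at h2
    have := hfinj _ _ h2
    have hi4 : i = 0 ∨ i = 4 := by omega
    have hb0v : b0 * v = f ^ i * v * b0 := by rw [← hv'e, hv']; group
    rcases hi4 with rfl | rfl
    · exact ⟨b0, hb0P, hb0, by rw [hb0v, pow_zero, one_mul], j0, hj04, hbb⟩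
    · refine ⟨f * b0, mul_mem hfP hb0P, ?_, ?_, j0, hj04, ?_⟩
      · rw [mul_assoc, hb0, ← mul_assoc, ← mul_assoc, ← pow_succ', pow_succ]
      · rw [mul_assoc, hb0v, ← mul_assoc, ← mul_assoc, ← mul_assoc v, hvf, ← pow_succ', show 4 + 1 = 5 from rfl]
      · rw [mul_assoc, ← mul_assoc b0, hb0, mul_assoc, hbb, ← mul_assoc, ← pow_succ', ← pow_add, hpf,
          show (7 + 1 + j0) % 8 = j0 % 8 by omega, ← hpf]
  -- the normaliser of `⟨f⟩`
  have hact : ∀ e B i : ℕ, e < 2 → B < 2 → f ^ i * v ^ e * b1 ^ B * f =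
      f ^ ((if e = 1 then 5 else 1) * (if B = 1 then 7 else 1)) * (f ^ i * v ^ e * b1 ^ B) := by
    intro e B i he hB
    interval_cases e <;> interval_cases B
    · simp [← pow_succ, ← pow_succ']
    · simp only [pow_zero, mul_one, pow_one, mul_assoc, hb1f]
      simp only [← mul_assoc, ← pow_add]; congr 2; simp; omega
    · simp only [pow_zero, mul_one, pow_one, mul_assoc, hvf]
      simp only [← mul_assoc, ← pow_add]; congr 2; simp; omega
    · simp only [pow_one, mul_assoc, hb1f]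
      simp only [← mul_assoc, ← pow_add, mul_assoc _ v (f ^ 7), hsemi hvf]; congr 3; simp; omega
  have hinj3 : ∀ i e B i' e' B' : ℕ, i < 8 → e < 2 → B < 2 → i' < 8 → e' < 2 → B' < 2 →
      f ^ i * v ^ e * b1 ^ B = f ^ i' * v ^ e' * b1 ^ B' → i = i' ∧ e = e' ∧ B = B' := by
    intro i e B i' e' B' hi he hB hi' he' hB' h
    have h1 := hact e B i he hB
    rw [h, hact e' B' i' he' hB', mul_left_inj] at h1
    have h2 := hfinj _ _ h1
    have he2 : e = e' ∧ B = B' := by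
      interval_cases e <;> interval_cases e' <;> interval_cases B <;> interval_cases B' <;>
        simp at h2 <;> omega
    obtain ⟨rfl, rfl⟩ := he2
    rw [mul_left_inj, mul_left_inj] at h
    have := hfinj _ _ h
    exact ⟨by omega, rfl, rfl⟩
  set N := P ⊓ normalizer (zpowers f : Set G) with hN
  have hNform : ∀ x ∈ N, ∃ i e B : ℕ, i < 8 ∧ e < 2 ∧ B < 2 ∧ x = f ^ i * v ^ e * b1 ^ B := by
    intro x hx
    obtain ⟨k, hk⟩ := (mem_powers_iff_mem_zpowers (x := f)).2 ((mem_normalizer_iff.1 hx.2 f).1 (mem_zpowers f))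
    have hk' : f ^ k = x * f * x⁻¹ := hk
    have ho : orderOf (f ^ k) = 8 := by rw [hk', Invol.orderOf_conj_eq, hf]
    have hk2 : k % 2 = 1 := by
      by_contra hne
      have h4 : (f ^ k) ^ 4 = 1 := by rw [← pow_mul, hpf, show k * 4 % 8 = 0 by omega, pow_zero]
      have := orderOf_dvd_of_pow_eq_one h4
      rw [ho] at this
      norm_num at this
    obtain ⟨e, B, he, hB, hkB⟩ : ∃ e B : ℕ, e < 2 ∧ B < 2 ∧
        ((if e = 1 then 5 else 1) * (if B = 1 then 7 else 1)) % 8 = k % 8 := by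
      rcases (show k % 8 = 1 ∨ k % 8 = 3 ∨ k % 8 = 5 ∨ k % 8 = 7 by omega) with h | h | h | h
      · exact ⟨0, 0, by norm_num, by norm_num, by rw [h]; norm_num⟩
      · exact ⟨1, 1, by norm_num, by norm_num, by rw [h]; norm_num⟩
      · exact ⟨1, 0, by norm_num, by norm_num, by rw [h]; norm_num⟩
      · exact ⟨0, 1, by norm_num, by norm_num, by rw [h]; norm_num⟩
    set w := v ^ e * b1 ^ B
    have hwP : w ∈ P := mul_mem (pow_mem hvP _) (pow_mem hb1P _)
    have hwf : w * f = f ^ k * w := by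
      have := hact e B 0 he hB
      rw [pow_zero, one_mul, hpf, hkB, ← hpf] at this
      exact this
    obtain ⟨i, hi, hie⟩ := hcent (x * w⁻¹) (mul_mem hx.1 (inv_mem hwP)) (by
      have h2 : w⁻¹ * f ^ k = f * w⁻¹ := by
        calc w⁻¹ * f ^ k = w⁻¹ * (f ^ k * w) * w⁻¹ := by group
          _ = _ := by rw [← hwf]; group
      have hxk : x * f = f ^ k * x := by rw [hk']; group
      have hki : f ^ (k * k) = f := by
        rw [hpf, show k * k % 8 = 1 by
          rw [Nat.mul_mod]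
          rcases (show k % 8 = 1 ∨ k % 8 = 3 ∨ k % 8 = 5 ∨ k % 8 = 7 by omega) with h | h | h | h <;> rw [h], pow_one]
      have h3 : w⁻¹ * f = f ^ k * w⁻¹ := by
        have h4 : w * f ^ k = f * w := by rw [hsemi hwf, hki]
        calc w⁻¹ * f = w⁻¹ * (f * w) * w⁻¹ := by group
          _ = _ := by rw [← h4]; group
      rw [mul_assoc, h3, ← mul_assoc, hsemi hxk, hki, mul_assoc])
    exact ⟨i, e, B, hi, he, hB, by rw [← hie, mul_assoc _ (v ^ e), ← show w = v ^ e * b1 ^ B from rfl, inv_mul_cancel_right]⟩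
  have hmemN : ∀ i e B : ℕ, e < 2 → B < 2 → f ^ i * v ^ e * b1 ^ B ∈ N := by
    intro i e B he hB
    refine ⟨mul_mem (mul_mem (pow_mem hfP _) (pow_mem hvP _)) (pow_mem hb1P _), mem_normalizer_fintype ?_⟩
    rintro _ ⟨k, rfl⟩
    refine ⟨(((if e = 1 then 5 else 1) * (if B = 1 then 7 else 1) : ℕ) : ℤ) * k, ?_⟩
    show f ^ (_ * k) = _ * f ^ k * _
    rw [← conj_zpow, hact e B i he hB, mul_inv_cancel_right, zpow_mul, zpow_natCast]
  have hcN : Nat.card N = 32 := by
    let φ : Fin 8 × Fin 2 × Fin 2 → N := fun t => ⟨_, hmemN t.1.val t.2.1.val t.2.2.val t.2.1.isLt t.2.2.isLt⟩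
    have hφ : Function.Bijective φ := by
      refine ⟨fun a a' h => ?_, fun ⟨x, hx⟩ => ?_⟩
      · obtain ⟨h1, h2, h3⟩ := hinj3 _ _ _ _ _ _ a.1.isLt a.2.1.isLt a.2.2.isLt a'.1.isLt a'.2.1.isLt a'.2.2.isLt
          (congrArg Subtype.val h)
        exact Prod.ext (Fin.ext h1) (Prod.ext (Fin.ext h2) (Fin.ext h3))
      · obtain ⟨i, e, B, hi, he, hB, rfl⟩ := hNform x hx
        exact ⟨(⟨i, hi⟩, ⟨e, he⟩, ⟨B, hB⟩), rfl⟩
    rw [← Nat.card_congr (Equiv.ofBijective φ hφ)]
    simp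
  have hfN : f ∈ N := by simpa using hmemN 1 0 0 (by norm_num) (by norm_num)
  have hNn : (N.subgroupOf P).Normal := by
    refine normal_of_index_eq_two ?_
    have := (N.subgroupOf P).card_mul_index
    rw [Nat.card_congr (Subgroup.subgroupOfEquivOfLe inf_le_left).toEquiv, hcN, hP] at this
    omega
  obtain ⟨g, hgP, hgN⟩ : ∃ g ∈ P, g ∉ N := by
    by_contra hcon
    push Not at hcon
    have := Subgroup.card_le_of_le (show P ≤ N from hcon)
    omega
  obtain ⟨i, e, B, hi, he, hB, hgf⟩ := hNform (g * f * g⁻¹)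
    (mem_subgroupOf.1 (hNn.conj_mem ⟨f, hfP⟩ (mem_subgroupOf.2 hfN) ⟨g, hgP⟩))
  have ho : orderOf (g * f * g⁻¹) = 8 := by rw [Invol.orderOf_conj_eq, hf]
  have hB0 : B = 0 := by
    by_contra hne
    have hB1 : B = 1 := by omega
    subst hB1
    obtain ⟨jb, hjb, hbj⟩ := hb1b
    have h4 : (g * f * g⁻¹) ^ 4 = 1 := by
      rw [hgf, show (4 : ℕ) = 2 * 2 from rfl, pow_mul, pow_two, pow_two, pow_one]
      have hsq : f ^ i * v ^ e * b1 * (f ^ i * v ^ e * b1) =
          f ^ (i + 7 * i * (if e = 1 then 5 else 1) + jb) := by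
        calc f ^ i * v ^ e * b1 * (f ^ i * v ^ e * b1)
            = f ^ i * v ^ e * (b1 * f ^ i) * v ^ e * b1 := by group
          _ = f ^ i * (v ^ e * f ^ (7 * i)) * (b1 * v ^ e) * b1 := by rw [hsemi hb1f]; group
          _ = f ^ i * (f ^ (7 * i * if e = 1 then 5 else 1) * v ^ e) * (v ^ e * b1) * b1 := by
              rw [((show Commute b1 v from hb1v).pow_right e).eq]
              interval_cases e
              · simp
              · rw [pow_one, hsemi hvf, if_pos rfl, mul_comm 5]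
          _ = f ^ i * f ^ (7 * i * if e = 1 then 5 else 1) * (v ^ e * v ^ e) * (b1 * b1) := by group
          _ = _ := by
              rw [← pow_add v, show v ^ (e + e) = 1 by rw [← two_mul, pow_mul, pow_two, hv2, one_pow], mul_one, hbj,
                ← pow_add, ← pow_add]
      rw [hsq, ← pow_add, hpf]
      convert pow_zero f using 2
      split_ifs <;> omega
    have := orderOf_dvd_of_pow_eq_one h4
    rw [ho] at this
    norm_num at this
  subst hB0
  rw [pow_zero, mul_one] at hgf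
  have he1 : e = 1 := by
    by_contra hne
    have he0 : e = 0 := by omega
    subst he0
    rw [pow_zero, mul_one] at hgf
    refine hgN ⟨hgP, mem_normalizer_fintype ?_⟩
    rintro _ ⟨k, rfl⟩
    refine ⟨(i : ℤ) * k, ?_⟩
    show f ^ ((i : ℤ) * k) = g * f ^ k * g⁻¹
    rw [← conj_zpow, hgf, zpow_mul, zpow_natCast]
  subst he1
  rw [pow_one] at hgf
  have hi2 : i % 2 = 1 := by
    by_contra hne
    have h4 : (g * f * g⁻¹) ^ 4 = 1 := by
      rw [hgf, show (4 : ℕ) = 2 * 2 from rfl, pow_mul, pow_two, pow_two, hvsq, ← pow_add, hpf,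
        show (6 * i + 6 * i) % 8 = 0 by omega, pow_zero]
    have := orderOf_dvd_of_pow_eq_one h4
    rw [ho] at this
    norm_num at this
  obtain ⟨u, huP, huf, huv⟩ : ∃ u ∈ P, u * f = f ^ i * u ∧ u * v = v * u := by
    rcases (show i = 1 ∨ i = 3 ∨ i = 5 ∨ i = 7 by omega) with rfl | rfl | rfl | rfl
    · exact ⟨1, one_mem _, by simp, by simp⟩
    · refine ⟨v * b1, mul_mem hvP hb1P, ?_, by rw [mul_assoc, hb1v]⟩
      rw [mul_assoc, hb1f, ← mul_assoc, hsemi hvf, mul_assoc, hpf (5 * 7)]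
    · exact ⟨v, hvP, hvf, rfl⟩
    · exact ⟨b1, hb1P, hb1f, hb1v⟩
  have hii : f ^ (i * i) = f := by
    rcases (show i = 1 ∨ i = 3 ∨ i = 5 ∨ i = 7 by omega) with rfl | rfl | rfl | rfl <;> rw [hpf] <;> norm_num
  set c0 := u * g with hc0
  have hc0P : c0 ∈ P := mul_mem huP hgP
  have hc0f : c0 * f = f * v * c0 := by
    calc c0 * f = u * (g * f * g⁻¹) * g := by rw [hc0]; group
      _ = u * f ^ i * v * g := by rw [hgf]; group
      _ = f * (u * v) * g := by rw [hsemi huf, hii]; group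
      _ = f * (v * u) * g := by rw [huv]
      _ = _ := by rw [hc0]; group
  have hfv2 : f * v * (f * v) = f ^ 6 := by simpa using hvsq 1
  have hc0f2 : c0 * f ^ 2 = f ^ 6 * c0 := by
    rw [pow_two, ← mul_assoc, hc0f, mul_assoc, hc0f, ← mul_assoc, hfv2]
  set v' := c0 * v * c0⁻¹ with hv'
  have hv'f6 : v' * f ^ 6 = f ^ 6 * v' := by
    have h1 : c0⁻¹ * f ^ 6 = f ^ 2 * c0⁻¹ := by
      calc c0⁻¹ * f ^ 6 = c0⁻¹ * (f ^ 6 * c0) * c0⁻¹ := by group
        _ = _ := by rw [← hc0f2]; group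
    calc v' * f ^ 6 = c0 * v * (c0⁻¹ * f ^ 6) := by rw [hv']; group
      _ = c0 * (v * f ^ 2) * c0⁻¹ := by rw [h1]; group
      _ = c0 * f ^ 2 * v * c0⁻¹ := by rw [hfv_comm 2 rfl]; group
      _ = _ := by rw [hc0f2, hv']; group
  obtain ⟨i', e', B', hi', he', hB', hv'e⟩ := hNform v' (mem_subgroupOf.1 (hNn.conj_mem ⟨v, hvP⟩
    (mem_subgroupOf.2 (by simpa using hmemN 0 1 0 (by norm_num) (by norm_num))) ⟨c0, hc0P⟩))
  have hB0' : B' = 0 := by
    by_contra hne
    have h1 := hsemi (hact e' B' i' he' hB') 6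
    rw [← hv'e, hv'f6, mul_left_inj] at h1
    have := hfinj _ _ h1
    have hB1 : B' = 1 := by omega
    subst hB1
    interval_cases e' <;> simp at this
  subst hB0'
  rw [pow_zero, mul_one] at hv'e
  have hv'2 : v' * v' = 1 := by
    rw [hv', show c0 * v * c0⁻¹ * (c0 * v * c0⁻¹) = c0 * (v * v) * c0⁻¹ by group, hv2, mul_one, mul_inv_cancel]
  obtain ⟨c, hcP, hcf, hcv⟩ : ∃ c ∈ P, c * f = f * v * c ∧ c * v = v * c := by
    have he1 : e' = 1 := by
      by_contra hne
      have he0 : e' = 0 := by omega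
      subst he0
      rw [pow_zero, mul_one] at hv'e
      rw [hv'e, ← pow_add, ← pow_zero f] at hv'2
      have h2 := hfinj _ _ hv'2
      rcases (show i' = 0 ∨ i' = 4 by omega) with rfl | rfl
      · rw [pow_zero, hv', conj_eq_one_iff] at hv'e
        rw [hv'e, one_mul, mul_one] at hvf
        have := hfinj 1 5 (by rw [pow_one]; exact hvf)
        omega
      · have hz : c0 * f ^ 4 * c0⁻¹ = f ^ 4 := by
          rw [show (4 : ℕ) = 2 * 2 from rfl, pow_mul,
            (SemiconjBy.pow_right (show SemiconjBy c0 (f ^ 2) (f ^ 6) from hc0f2) 2).eq, mul_inv_cancel_right,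
            ← pow_mul, ← pow_mul, hpf]
        rw [hv', ← hz, mul_left_inj, mul_right_inj] at hv'e
        rw [hv'e, ← pow_succ, ← pow_add] at hvf
        have := hfinj _ _ hvf
        omega
    subst he1
    rw [pow_one] at hv'e
    rw [hv'e, hvsq, ← pow_zero f] at hv'2
    have := hfinj _ _ hv'2
    rcases (show i' = 0 ∨ i' = 4 by omega) with rfl | rfl
    · exact ⟨c0, hc0P, hc0f, by rw [pow_zero, one_mul, hv'] at hv'e; exact mul_inv_eq_iff_eq_mul.1 hv'e⟩
    · have hc0v : c0 * v = f ^ 4 * v * c0 := by rw [← hv'e, hv']; group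
      refine ⟨v * f * c0, mul_mem (mul_mem hvP hfP) hc0P, ?_, ?_⟩
      · calc v * f * c0 * f = v * (f * f) * v * c0 := by rw [mul_assoc _ c0, hc0f]; group
          _ = f ^ 2 * (v * v) * c0 := by rw [← pow_two, hfv_comm 2 rfl]; group
          _ = f * (v * v) * f * c0 := by rw [hv2, mul_one, mul_one, pow_two]
          _ = _ := by group
      · calc v * f * c0 * v = v * f * (f ^ 4 * v * c0) := by rw [mul_assoc _ c0, hc0v]
          _ = v * (f ^ 5 * v) * c0 := by rw [pow_succ' f 4]; group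
          _ = v * (v * f) * c0 := by rw [hvf]
          _ = _ := by group
  -- the squares and the twist
  obtain ⟨jc, hjc, hcc⟩ : ∃ j, (j = 0 ∨ j = 4) ∧ c * c = f ^ j := by
    obtain ⟨j, hj, hje⟩ := hcent (c * c) (mul_mem hcP hcP) (by
      calc c * c * f = c * (f * v) * c := by rw [mul_assoc, hcf]; group
        _ = f * v * (c * v) * c := by rw [← mul_assoc, hcf]; group
        _ = f * (v * v) * c * c := by rw [hcv]; group
        _ = _ := by rw [hv2]; group)
    have h1 : v * f ^ j = f ^ j * v := by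
      rw [← hje, ← mul_assoc, ← hcv, mul_assoc, ← hcv, ← mul_assoc]
    rw [hsemi hvf, mul_left_inj] at h1
    have h1' := hfinj _ _ h1
    obtain ⟨k, rfl⟩ : ∃ k, j = 2 * k := ⟨j / 2, by omega⟩
    have hc2f : c * f ^ 2 = f ^ 6 * c := by
      rw [pow_two, ← mul_assoc, hcf, mul_assoc, hcf, ← mul_assoc, hfv2]
    have h2 : c * f ^ (2 * k) = f ^ (6 * k) * c := by
      rw [pow_mul, (SemiconjBy.pow_right (show SemiconjBy c (f ^ 2) (f ^ 6) from hc2f) k).eq, ← pow_mul]
    rw [← hje, ← mul_assoc, hje, mul_left_inj] at h2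
    have := hfinj _ _ h2
    exact ⟨2 * k, by omega, hje⟩
  obtain ⟨jb, hjb, hbj⟩ := hb1b
  set kt := c * b1 * c⁻¹ * b1⁻¹ with hkt
  have hbinvf : b1⁻¹ * f = f ^ 7 * b1⁻¹ := by
    rw [inv_mul_eq_iff_eq_mul, ← mul_assoc, hsemi hb1f, mul_assoc, mul_inv_cancel, mul_one, hpf (7 * 7), pow_one]
  have hbinvv : b1⁻¹ * v = v * b1⁻¹ := (show Commute b1 v from hb1v).inv_left.eq
  have hcinvv : c⁻¹ * v = v * c⁻¹ := (show Commute c v from hcv).inv_left.eq
  have hcinvf : c⁻¹ * f = f * v * c⁻¹ := by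
    have h1 : c * (f * v) = f * c := by
      calc c * (f * v) = f * v * (c * v) := by rw [← mul_assoc, hcf, mul_assoc]
        _ = f * (v * v) * c := by rw [hcv]; group
        _ = f * c := by rw [hv2, mul_one]
    calc c⁻¹ * f = c⁻¹ * (f * c) * c⁻¹ := by group
      _ = _ := by rw [← h1]; group
  have hfv7 : (f * v) ^ 7 = f ^ 3 * v := by
    rw [pow_succ, show (6 : ℕ) = 2 * 3 from rfl, pow_mul, pow_two, hfv2, ← pow_mul, ← mul_assoc, ← pow_succ, hpf]
  have hktf : kt * f = f ^ 5 * kt := by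
    calc kt * f = c * b1 * c⁻¹ * (b1⁻¹ * f) := by rw [hkt]; group
      _ = c * b1 * (c⁻¹ * f ^ 7) * b1⁻¹ := by rw [hbinvf]; group
      _ = c * b1 * ((f * v) ^ 7 * c⁻¹) * b1⁻¹ := by
        rw [(SemiconjBy.pow_right (show SemiconjBy c⁻¹ f (f * v) from hcinvf) 7).eq]
      _ = c * (b1 * f ^ 3) * v * c⁻¹ * b1⁻¹ := by rw [hfv7]; group
      _ = c * f ^ (7 * 3) * (b1 * v) * c⁻¹ * b1⁻¹ := by rw [hsemi hb1f]; group
      _ = (f * v) ^ 5 * (c * v) * b1 * c⁻¹ * b1⁻¹ := by
        rw [hb1v, hpf (7 * 3), (SemiconjBy.pow_right (show SemiconjBy c f (f * v) from hcf) _).eq]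
        simp only [show 7 * 3 % 8 = 5 from rfl, mul_assoc]
      _ = (f * v) ^ 5 * v * (c * b1 * c⁻¹ * b1⁻¹) := by rw [hcv]; group
      _ = _ := by
        rw [← hkt, pow_succ, show (4 : ℕ) = 2 * 2 from rfl, pow_mul, pow_two (f * v), hfv2, ← pow_mul]
        refine congrArg (· * kt) ?_
        rw [← mul_assoc (f ^ (6 * 2)), ← pow_succ, mul_assoc _ v v, hv2, mul_one, hpf]
  have hktv : kt * v = v * kt := by
    calc kt * v = c * b1 * c⁻¹ * (b1⁻¹ * v) := by rw [hkt]; group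
      _ = c * b1 * (c⁻¹ * v) * b1⁻¹ := by rw [hbinvv]; group
      _ = c * (b1 * v) * c⁻¹ * b1⁻¹ := by rw [hcinvv]; group
      _ = (c * v) * b1 * c⁻¹ * b1⁻¹ := by rw [hb1v]; group
      _ = _ := by rw [hcv, hkt]; group
  obtain ⟨m, hm, hme⟩ := hcent (kt * v) (mul_mem (by
      rw [hkt]; exact mul_mem (mul_mem (mul_mem hcP hb1P) (inv_mem hcP)) (inv_mem hb1P)) hvP) (by
    rw [mul_assoc, hvf, ← mul_assoc, hsemi hktf, mul_assoc, hpf (5 * 5), pow_one])
  have hkte : kt = f ^ m * v := by rw [← hme, mul_assoc, hv2, mul_one]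
  have hm2 : m % 2 = 0 := by
    rw [hkte, mul_assoc, hv2, mul_one, ← mul_assoc, hsemi hvf, mul_assoc, hv2, mul_one] at hktv
    have := hfinj _ _ hktv
    omega
  have hcb : c * b1 = f ^ m * v * b1 * c := by rw [← hkte, hkt]; group
  obtain ⟨b, hbP, hbf, hbv, hbb', mk, hmk, hcb'⟩ : ∃ b ∈ P, b * f = f ^ 7 * b ∧ b * v = v * b ∧ b * b = f ^ jb ∧
      ∃ mk, (mk = 0 ∨ mk = 2) ∧ c * b = f ^ mk * v * b * c := by
    by_cases hm4 : m < 4
    · exact ⟨b1, hb1P, hb1f, hb1v, hbj, m, by omega, hcb⟩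
    refine ⟨f ^ 2 * b1, mul_mem (pow_mem hfP _) hb1P, ?_, ?_, ?_, m - 4, by omega, ?_⟩
    · rw [mul_assoc, hb1f, ← mul_assoc, ← mul_assoc, ← pow_add, ← pow_add]
    · rw [mul_assoc, hb1v, ← mul_assoc, ← mul_assoc, hfv_comm 2 rfl]
    · rw [mul_assoc, ← mul_assoc b1, hsemi hb1f, mul_assoc, hbj, ← mul_assoc, ← pow_add, ← pow_add, hpf,
        show (2 + 7 * 2 + jb) % 8 = jb % 8 by omega, ← hpf]
    · have hc2f : c * f ^ 2 = f ^ 6 * c := by
        rw [pow_two, ← mul_assoc, hcf, mul_assoc, hcf, ← mul_assoc, hfv2]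
      calc c * (f ^ 2 * b1) = f ^ 6 * (c * b1) := by rw [← mul_assoc, hc2f, mul_assoc]
        _ = f ^ (m - 4 + 2) * v * b1 * c := by
          rw [hcb, hpf (m - 4 + 2), show (m - 4 + 2) % 8 = (6 + m) % 8 by omega, ← hpf, pow_add]; simp only [mul_assoc]
        _ = f ^ (m - 4) * (f ^ 2 * v) * b1 * c := by rw [pow_add]; simp only [mul_assoc]
        _ = _ := by rw [← hfv_comm 2 rfl]; simp only [mul_assoc]
  let d : Gens G :=
    { par := (decide (jb = 4), decide (jc = 4), decide (mk = 2)), f := f, v := v, b := b, c := c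
      f8 := hf8, v2 := hv2, vf := hvf, bf := hbf, bv := hbv, cf := hcf, cv := hcv
      b2 := by rw [hbb']; rcases hjb with rfl | rfl <;> rfl
      c2 := by rw [hcc]; rcases hjc with rfl | rfl <;> rfl
      cb := by rw [hcb']; rcases hmk with rfl | rfl <;> rfl }
  have hmemP : ∀ n, d.elt n ∈ P := fun n =>
    mul_mem (mul_mem (mul_mem (pow_mem hfP _) (pow_mem hvP _)) (pow_mem hbP _)) (pow_mem hcP _)
  have hfix : ∀ x, x ∈ N → ∀ y, y ∈ N → x * c ≠ y := by
    intro x hx y hy hxy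
    have hcN' : c ∈ N := by
      have : c = x⁻¹ * y := by rw [← hxy]; group
      exact this ▸ N.mul_mem (N.inv_mem hx) hy
    have h1 : f * v ∈ zpowers f := by
      have := (mem_normalizer_iff.1 hcN'.2 f).1 (mem_zpowers f)
      rwa [hcf, mul_inv_cancel_right] at this
    have h2 : v ∈ zpowers f := by simpa using mul_mem (inv_mem (mem_zpowers f)) h1
    obtain ⟨k, rfl⟩ := mem_zpowers_iff.1 h2
    rw [((Commute.refl f).zpow_left k).eq, mul_left_inj] at hvf
    have := hfinj 1 5 (by rw [pow_one]; exact hvf)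
    omega
  have hN2 : ∀ n : Fin 64, d.f ^ (n.val % 8) * d.v ^ (n.val / 8 % 2) * d.b ^ (n.val / 16 % 2) ∈ N := by
    intro n
    have hnz : ∀ k : ℕ, f ^ k * v ∈ N ∧ f ^ k ∈ N := fun k =>
      ⟨by simpa using hmemN k 1 0 (by norm_num) (by norm_num), by simpa using hmemN k 0 0 (by norm_num) (by norm_num)⟩
    refine mul_mem (mul_mem (hnz _).2 (pow_mem (by simpa using (hnz 0).1) _)) (pow_mem (show b ∈ N from ⟨hbP, mem_normalizer_fintype ?_⟩) _)
    rintro _ ⟨k, rfl⟩
    refine ⟨(7 : ℕ) * k, ?_⟩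
    show f ^ (_ * k) = b * f ^ k * b⁻¹
    rw [← conj_zpow, hbf, mul_inv_cancel_right, zpow_mul, zpow_natCast]
  have hbact : ∀ e B : ℕ, e < 2 → B < 2 → v ^ e * b ^ B * f =
      f ^ ((if e = 1 then 5 else 1) * (if B = 1 then 7 else 1)) * (v ^ e * b ^ B) := by
    intro e B he hB
    interval_cases e <;> interval_cases B
    · simp
    · simpa using hbf
    · simpa using hvf
    · simp only [pow_one, ↓reduceIte]
      rw [mul_assoc, hbf, ← mul_assoc, hsemi hvf, mul_assoc]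
  have hinj : Function.Injective d.elt := by
    intro n n' h
    simp only [Gens.elt] at h
    have hn := n.isLt
    have hn' := n'.isLt
    by_cases hC : n.val / 32 = n'.val / 32
    · rw [hC, mul_left_inj] at h
      set i := n.val % 8
      set i' := n'.val % 8
      set e := n.val / 8 % 2
      set e' := n'.val / 8 % 2
      set B := n.val / 16 % 2
      set B' := n'.val / 16 % 2
      have h' : f ^ i * v ^ e * b ^ B = f ^ i' * v ^ e' * b ^ B' := h
      have hact' : ∀ j e B, e < 2 → B < 2 → f ^ j * v ^ e * b ^ B * f =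
          f ^ ((if e = 1 then 5 else 1) * (if B = 1 then 7 else 1)) * (f ^ j * v ^ e * b ^ B) := by
        intro j e B he hB
        rw [mul_assoc (f ^ j), mul_assoc, hbact e B he hB]
        simp only [← mul_assoc, ← pow_add, add_comm]
      have h1 := hact' i e B (by omega) (by omega)
      rw [h', hact' i' e' B' (by omega) (by omega), mul_left_inj] at h1
      have h2 := hfinj _ _ h1
      have he2 : e = e' ∧ B = B' := by
        rcases (show e = 0 ∨ e = 1 by omega) with h3 | h3 <;> rcases (show e' = 0 ∨ e' = 1 by omega) with h4 | h4 <;>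
          rcases (show B = 0 ∨ B = 1 by omega) with h5 | h5 <;> rcases (show B' = 0 ∨ B' = 1 by omega) with h6 | h6 <;>
          rw [h3, h4, h5, h6] at h2 <;> simp at h2 <;> omega
      rw [he2.1, he2.2, mul_left_inj, mul_left_inj] at h'
      have := hfinj _ _ h'
      exact Fin.ext (by omega)
    · exfalso
      rcases (show n.val / 32 = 0 ∨ n.val / 32 = 1 by omega) with h3 | h3 <;>
        rcases (show n'.val / 32 = 0 ∨ n'.val / 32 = 1 by omega) with h4 | h4 <;>
        first | (exact hC (by omega)) | rw [h3, h4, pow_zero, pow_one, mul_one] at h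
      · exact hfix _ (hN2 n') _ (hN2 n) h.symm
      · exact hfix _ (hN2 n) _ (hN2 n') h
  refine ⟨⟨d.par, d.elt, hinj, d.elt_mul, fun x => ⟨fun hx => ?_, fun ⟨n, hn⟩ => hn ▸ hmemP n⟩⟩⟩
  have : Function.Bijective fun n => (⟨d.elt n, hmemP n⟩ : P) :=
    Function.Injective.bijective_of_nat_card_le (fun a a' h => hinj (congrArg Subtype.val h))
      (by rw [hP, Nat.card_fin])
  obtain ⟨n, hn⟩ := this.2 ⟨x, hx⟩
  exact ⟨n, congrArg Subtype.val hn⟩

end Cfsg.Agent.Invol.SelfEightType
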