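import Cfsg.Agent.Lib.Invol.SelfEightType.Model

/-! Classes of involutions and transfer certificates for the groups of order 64. -/

set_option autoImplicit false
set_option maxRecDepth 100000

namespace Cfsg.Agent.Invol.SelfEightType

open Cfsg.Agent.Invol.TwelveType (t64 s64)

/-- The classes of involutions other than `z`, `v`, `v z`. -/
def classes : Par → List (List (Fin 64))
  | (false, false, false) => [[16, 18, 20, 22, 24, 26, 28, 30], [17, 19, 21, 23], [32, 36, 40, 44], [34, 38, 42, 46], [49, 53, 59, 63]]
  | (false, false, true) => [[16, 18, 20, 22, 24, 26, 28, 30], [17, 19, 21, 23], [32, 34, 36, 38, 40, 42, 44, 46]]
  | (false, true, false) => [[16, 18, 20, 22, 24, 26, 28, 30], [17, 19, 21, 23], [51, 55, 57, 61]]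
  | (false, true, true) => [[16, 18, 20, 22, 24, 26, 28, 30], [17, 19, 21, 23]]
  | (true, false, false) => [[25, 27, 29, 31], [32, 36, 40, 44], [34, 38, 42, 46], [51, 55, 57, 61]]
  | (true, false, true) => [[25, 27, 29, 31], [32, 34, 36, 38, 40, 42, 44, 46]]
  | (true, true, false) => [[25, 27, 29, 31], [49, 53, 59, 63]]
  | (true, true, true) => [[25, 27, 29, 31]]

/-- A character and an involution for each candidate union of classes. -/
def certs : Par → List (List Bool × (Bool × Bool × Bool) × Fin 64)
  | (false, false, false) => []
  | (false, false, true) => [([false, false, true], (false, true, false), 16), ([false, true, false], (false, true, true), 16), ([false, true, true], (false, true, false), 16), ([true, false, false], (false, false, true), 32), ([true, false, true], (true, false, false), 17), ([true, true, false], (false, false, true), 32)]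
  | (false, true, false) => [([false, false, true], (false, true, false), 16), ([false, true, false], (false, true, false), 16), ([false, true, true], (false, true, false), 16), ([true, false, false], (true, false, false), 17), ([true, false, true], (true, false, false), 17), ([true, true, false], (true, false, false), 51)]
  | (false, true, true) => [([false, true], (false, true, false), 16), ([true, false], (true, false, false), 17)]
  | (true, false, false) => [([false, false, false, true], (true, false, true), 25), ([false, false, true, true], (true, false, false), 25), ([false, true, false, true], (true, false, false), 25), ([false, true, true, false], (true, false, false), 25), ([false, true, true, true], (true, false, false), 25), ([true, false, false, false], (false, false, true), 32), ([true, false, false, true], (false, false, true), 32), ([true, false, true, false], (true, false, false), 51), ([true, false, true, true], (false, false, true), 32), ([true, true, false, false], (true, false, false), 51), ([true, true, false, true], (false, false, true), 34), ([true, true, true, false], (true, false, false), 51)]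
  | (true, false, true) => [([false, true], (true, false, false), 25), ([true, false], (false, false, true), 32)]
  | (true, true, false) => [([false, true], (true, false, false), 25), ([true, false], (true, false, false), 49)]
  | (true, true, true) => []

end Cfsg.Agent.Invol.SelfEightType
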