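import Cfsg.Agent.Lib.Invol.SelfEightType.Data

/-! Finite facts about the groups of order 64. -/

set_option autoImplicit false
set_option maxRecDepth 100000

namespace Cfsg.Agent.Invol.SelfEightType

open Cfsg.Agent.Invol.TwelveType (t64 s64)

/-- An involution, as a test. -/
def invol (P : Par) (n : Fin 64) : Bool := mulJ P n n == 0 && !(n == 0)

/-- The involutions. -/
def invs (P : Par) : List (Fin 64) := (List.finRange 64).filter (invol P)

/-- The candidate set of conjugates of `z`. -/
def zSet (P : Par) (bs : List Bool) : List (Fin 64) :=
  [4, 8, 12] ++ (((classes P).zip bs).filter fun p => p.2).flatMap fun p => p.1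

/-- The number of members of a list commuting with an element. -/
def cntIn (P : Par) (Z : List (Fin 64)) (u : Fin 64) : ℕ := Z.countP fun n => comJ P n u

/-- The complement of the candidate set among involutions. -/
def nonZ (P : Par) (Z : List (Fin 64)) : List (Fin 64) := (invs P).filter fun n => !Z.contains n

/-- The transfer obstruction. -/
def obstruct (P : Par) (Z : List (Fin 64)) (w : Bool × Bool × Bool) (u : Fin 64) : Bool :=
  invol P u && chi w u && (invs P).all fun x => chi w x ||
    !(Z.contains u == Z.contains x && decide (cntIn P Z u ≤ cntIn P Z x) &&
      decide (cntIn P (nonZ P Z) u ≤ cntIn P (nonZ P Z) x))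

/-- Commuting and closed under products. -/
def closedJ (P : Par) (L : List (Fin 64)) : Bool :=
  L.contains 0 && L.all fun a => mulJ P a a == 0 && L.all fun b => comJ P a b && L.contains (mulJ P a b)

/-- Every candidate is refuted or is the set of all involutions. -/
def verdict (P : Par) (bs : List Bool) : Bool :=
  (invs P).all (fun n => (zSet P bs).contains n) || closedJ P (0 :: zSet P bs) ||
    (certs P).any fun c => c.1 == bs && obstruct P (zSet P bs) c.2.1 c.2.2

/-- All lists of booleans of a length. -/
def boolLists : ℕ → List (List Bool)
  | 0 => [[]]
  | n + 1 => (boolLists n).flatMap fun l => [false :: l, true :: l]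

theorem mem_boolLists : ∀ l : List Bool, l ∈ boolLists l.length := by
  intro l
  induction l with
  | nil => simp [boolLists]
  | cons b l ih =>
    simp only [boolLists, List.length_cons, List.mem_flatMap]
    exact ⟨l, ih, by cases b <;> simp⟩

theorem verdicts : pars.all (fun P => P == (false, false, false) ||
    (boolLists (classes P).length).all fun bs => verdict P bs) = true := by decide +kernel

theorem classes_ok : pars.all (fun P =>
    (classes P).all (fun l => !l.isEmpty && l.all fun x => invol P x && s64 fun g => conjJ P g (l.headD 0) == x) &&
    (invs P).all (fun n => [4, 8, 12].contains n || (classes P).any fun l => l.contains n) &&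
    [4, 8, 12].all (invol P) && conjJ P 1 8 == 12 && mulJ P 8 12 == 4 && mulJ P 12 8 == 4 && mulJ P 4 8 == mulJ P 8 4) = true := by
  decide +kernel

theorem central_ok : pars.all (fun P => t64 fun n => comJ P n 4) = true := by decide +kernel

theorem square_ok : pars.all (fun P => t64 fun n => !(invol P (mulJ P n n)) || [4, 8, 12].contains (mulJ P n n)) = true := by
  decide +kernel

theorem small_ok : pars.all (fun P => (invs P).all fun r => [4, 8, 12].contains r ||
    s64 (fun w => comJ P w r && mulJ P w w == 4) ||
    (decide ((List.finRange 64).countP (fun x => comJ P x r) = 8) && comJ P 8 r &&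
      t64 fun x => !(comJ P x r) || [0, 4, 8, 12].contains x || (invol P x && s64 fun g => conjJ P g r == x))) = true := by
  decide +kernel

end Cfsg.Agent.Invol.SelfEightType
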