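import Cfsg.Agent.Lib.Invol.SelfEightType.Fusion
import Cfsg.Agent.Lib.Grp.GTwoSylow.Builder

/-! With vanishing parameters the group is `(Z/4 × Z/4) ⋊ V₄`. -/

set_option autoImplicit false
set_option maxRecDepth 100000

namespace Cfsg.Agent.Invol.SelfEightType

open Cfsg.Agent.Grp.GTwoSylow

universe u

/-- The index of a power product. -/
def powJ (n : Fin 64) : ℕ → Fin 64
  | 0 => 0
  | k + 1 => mulJ (false, false, false) (powJ n k) n

theorem frame_facts : let m := mulJ (false, false, false); let v := invJ (false, false, false)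
    powJ 48 4 = 0 ∧ powJ 50 4 = 0 ∧ m 48 50 = m 50 48 ∧ m 32 32 = 0 ∧ m 17 17 = 0 ∧ m 17 32 = m 32 17 ∧
    m 32 48 = m (v 48) 32 ∧ m 32 50 = m (v 50) 32 ∧ m 17 48 = m 50 17 ∧ m 17 50 = m 48 17 ∧
    (∀ a b : Fin 4, m (powJ 48 a.val) (powJ 50 b.val) = 0 → a = 0 ∧ b = 0) := by decide +kernel

variable {G : Type u} [Group G]

theorem el_pow {S : Subgroup G} (c : Coord S) (hc : c.par = (false, false, false)) (n : Fin 64) :
    ∀ k, c.el (powJ n k) = c.el n ^ k := by
  intro k
  induction k with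
  | zero => rw [powJ, pow_zero, c.el_zero]
  | succ k ih => rw [powJ, ← hc, ← c.mul, ih, pow_succ]

theorem nonempty_frame {S : Subgroup G} (c : Coord S) (hc : c.par = (false, false, false)) :
    Nonempty (Frame ↥S) := by
  obtain ⟨f1, f2, f3, f4, f5, f6, f7, f8, f9, f10, f11⟩ := frame_facts
  rw [← hc] at f3 f4 f5 f6 f7 f8 f9 f10
  have hm : ∀ n m, c.el n * c.el m = c.el (mulJ c.par n m) := c.mul
  let w : Fin 64 → ↥S := fun n => ⟨c.el n, c.mem_el n⟩
  have hp1 : c.el 48 ^ 4 = 1 := by rw [← el_pow c hc, f1, c.el_zero]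
  have hp2 : c.el 50 ^ 4 = 1 := by rw [← el_pow c hc, f2, c.el_zero]
  refine ⟨{ k := 2, hk := le_rfl, x := w 48, y := w 50, i := w 32, s := w 17,
            xN := Subtype.ext (by simpa [w] using hp1), yN := Subtype.ext (by simpa [w] using hp2),
            xy := Subtype.ext (by show c.el 48 * c.el 50 = c.el 50 * c.el 48; rw [hm, hm, f3]),
            ii := Subtype.ext (by show c.el 32 * c.el 32 = 1; rw [hm, f4, c.el_zero]),
            ss := Subtype.ext (by show c.el 17 * c.el 17 = 1; rw [hm, f5, c.el_zero]),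
            si := Subtype.ext (by show c.el 17 * c.el 32 = c.el 32 * c.el 17; rw [hm, hm, f6]),
            ix := Subtype.ext (by show c.el 32 * c.el 48 = (c.el 48)⁻¹ * c.el 32; rw [← c.el_inv, hm, hm, f7]),
            iy := Subtype.ext (by show c.el 32 * c.el 50 = (c.el 50)⁻¹ * c.el 32; rw [← c.el_inv, hm, hm, f8]),
            sx := Subtype.ext (by show c.el 17 * c.el 48 = c.el 50 * c.el 17; rw [hm, hm, f9]),
            sy := Subtype.ext (by show c.el 17 * c.el 50 = c.el 48 * c.el 17; rw [hm, hm, f10]),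
            indep := fun a b h => ?_, card := ?_ }⟩
  · have h' : c.el 48 ^ a * c.el 50 ^ b = 1 := by simpa [w] using congrArg Subtype.val h
    have hred : c.el 48 ^ (a % 4) * c.el 50 ^ (b % 4) = 1 := by
      conv_lhs at h' => rw [← Nat.mod_add_div a 4, ← Nat.mod_add_div b 4]
      rwa [pow_add, pow_mul, hp1, one_pow, mul_one, pow_add, pow_mul, hp2, one_pow, mul_one] at h'
    rw [← el_pow c hc, ← el_pow c hc, hm, c.el_eq_one, hc] at hred
    obtain ⟨ha, hb⟩ := f11 ⟨a % 4, Nat.mod_lt _ (by norm_num)⟩ ⟨b % 4, Nat.mod_lt _ (by norm_num)⟩ hred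
    exact ⟨Nat.dvd_of_mod_eq_zero (by simpa using congrArg Fin.val ha),
      Nat.dvd_of_mod_eq_zero (by simpa using congrArg Fin.val hb)⟩
  · have hw : Function.Bijective w := ⟨fun a b h => c.inj (congrArg Subtype.val h), fun x => by
      obtain ⟨n, hn⟩ := (c.mem _).1 x.2
      exact ⟨n, Subtype.ext hn⟩⟩
    rw [← Nat.card_congr (Equiv.ofBijective w hw), Nat.card_fin]
    norm_num

end Cfsg.Agent.Invol.SelfEightType
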