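import Cfsg.Agent.Lib.Invol.Transfer2
import Cfsg.Agent.Lib.Invol.Sylow

/-! Transfer in a nonabelian simple group: an involution outside the kernel of a character fuses into it. -/

set_option autoImplicit false

namespace Cfsg.Agent.Invol.SelfEightType

open Subgroup

variable {G : Type*} [Group G] [Finite G] [IsSimpleGroup G]

theorem transfer_fuse (hna : ¬ IsMulCommutative G) (S : Sylow 2 G)
    (φ : ↥(S : Subgroup G) →* Multiplicative (ZMod 2)) {u : ↥(S : Subgroup G)} (hu : u * u = 1) (hφ : φ u ≠ 1) :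
    ∃ (x : G) (v : ↥(S : Subgroup G)), (v : G) = x⁻¹ * u * x ∧ φ v = 1 ∧
      ∀ c : ↥(S : Subgroup G), c * u = u * c → x⁻¹ * c * x ∈ (S : Subgroup G) := by
  have huG : (u : G) * u = 1 := by rw [← Subgroup.coe_mul, hu, Subgroup.coe_one]
  have htr : MonoidHom.transfer φ (u : G) = 1 := by
    rcases IsSimpleGroup.eq_bot_or_eq_top_of_normal (MonoidHom.transfer φ).ker inferInstance with h | h
    · exact absurd ⟨⟨fun a b => (MonoidHom.ker_eq_bot_iff _).1 h (by rw [map_mul, map_mul, mul_comm])⟩⟩ hna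
    · exact MonoidHom.mem_ker.1 (h ▸ Subgroup.mem_top (u : G))
  have hev := Invol.even_card_of_transfer_eq_one φ huG htr
    (ι := Multiplicative.ofAdd (1 : ZMod 2)) (orderOf_eq_prime (by decide) (by decide))
    (fun a ha => by
      have : a ≠ 1 := fun h => by rw [h, orderOf_one] at ha; omega
      revert this; clear ha; revert a; decide)
  let R : Subgroup G := (S : Subgroup G) ⊓ centralizer {(u : G)}
  have hR : IsPGroup 2 R := S.isPGroup'.to_le inf_le_left
  let P : G ⧸ (S : Subgroup G) → Prop := fun q => ∃ x : G, QuotientGroup.mk x = q ∧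
    ∃ h : x⁻¹ * u * x ∈ (S : Subgroup G), φ ⟨_, h⟩ ≠ 1
  have hP : ∀ r ∈ R, ∀ q, P q → P (r • q) := by
    rintro r ⟨-, hr⟩ _ ⟨x, rfl, h, hne⟩
    have hr' : (u : G) * r = r * u := mem_centralizer_singleton_iff.1 hr |>.symm
    have heq : (r * x)⁻¹ * (u : G) * (r * x) = x⁻¹ * u * x := by
      calc (r * x)⁻¹ * (u : G) * (r * x) = x⁻¹ * r⁻¹ * ((u : G) * r) * x := by group
        _ = x⁻¹ * r⁻¹ * (r * (u : G)) * x := by rw [hr']
        _ = x⁻¹ * u * x := by group
    exact ⟨r * x, (MulAction.Quotient.smul_mk _ r x).symm, heq ▸ h, by simpa only [heq] using hne⟩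
  have h1 := Invol.card_invariant_modEq hR P hP
  have h2 := Invol.card_invariant_modEq hR (fun _ : G ⧸ (S : Subgroup G) => True)
    (fun _ _ _ _ => trivial)
  obtain ⟨q, hq, hqP⟩ : ∃ q : G ⧸ (S : Subgroup G), (∀ r ∈ R, r • q = q) ∧ ¬ P q := by
    by_contra hall
    push Not at hall
    have he : Nat.card {q // P q ∧ ∀ r ∈ R, r • q = q} =
        Nat.card {q : G ⧸ (S : Subgroup G) // True ∧ ∀ r ∈ R, r • q = q} :=
      Nat.card_congr (Equiv.subtypeEquivRight fun q =>
        ⟨fun h => ⟨trivial, h.2⟩, fun h => ⟨hall q h.2, h.2⟩⟩)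
    have hodd : ¬ 2 ∣ Nat.card (G ⧸ (S : Subgroup G)) := by
      rw [← Subgroup.index_eq_card]; exact S.not_dvd_index
    rw [Nat.card_congr (Equiv.subtypeUnivEquiv fun _ : G ⧸ (S : Subgroup G) => trivial)] at h2
    rw [he] at h1
    have h3 : Nat.card {q // P q} ≡ Nat.card (G ⧸ (S : Subgroup G)) [MOD 2] := h1.trans h2.symm
    exact hodd ((h3.dvd_iff dvd_rfl).1 (even_iff_two_dvd.1 hev))
  obtain ⟨x, rfl⟩ := QuotientGroup.mk_surjective q
  have huR : (u : G) ∈ R := ⟨u.2, mem_centralizer_singleton_iff.2 rfl⟩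
  have hmem : x⁻¹ * u * x ∈ (S : Subgroup G) := Invol.smul_mk_eq_iff.1 (hq _ huR)
  refine ⟨x, ⟨_, hmem⟩, rfl, ?_, fun c hc => Invol.smul_mk_eq_iff.1 (hq _ ⟨c.2, ?_⟩)⟩
  · by_contra h
    exact hqP ⟨x, rfl, hmem, h⟩
  · exact mem_centralizer_singleton_iff.2 (congrArg Subtype.val hc)

end Cfsg.Agent.Invol.SelfEightType
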