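import Cfsg.Agent.Lib.Invol.SelfEightType.Coord
import Cfsg.Agent.Lib.Invol.SelfEightType.Facts
import Cfsg.Agent.Lib.Invol.SelfEightType.Transfer
import Cfsg.Agent.Lib.Invol.ZStar
import Cfsg.Agent.Lib.Fus.Goldschmidt.Main

/-!
In a nonabelian simple group with such a Sylow 2-subgroup and two classes of involutions the parameters vanish.
-/

set_option autoImplicit false
set_option linter.style.haveILetI false
set_option linter.unusedSectionVars false

namespace Cfsg.Agent.Invol.SelfEightType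

open Subgroup
open Cfsg.Agent.Invol.TwelveType (t64 s64 of_t64 of_s64)

universe u

variable {G : Type u} [Group G]

namespace Coord

variable {S : Subgroup G} (c : Coord S)

theorem mem_el (n : Fin 64) : c.el n ∈ S := (c.mem _).2 ⟨n, rfl⟩

theorem el_zero : c.el 0 = 1 := by
  have h1 : mulJ c.par 0 0 = 0 := by generalize c.par = P; revert P; decide +kernel
  have := c.mul 0 0
  rw [h1] at this
  exact mul_eq_left.1 this

theorem el_inv (n : Fin 64) : c.el (invJ c.par n) = (c.el n)⁻¹ := by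
  refine eq_inv_of_mul_eq_one_left ?_
  have := of_t64 (List.all_eq_true.1 inv_ok c.par (mem_pars _)) n
  simp only [Bool.and_eq_true, beq_iff_eq] at this
  rw [c.mul, this.2, c.el_zero]

theorem el_conj (h n : Fin 64) : c.el (conjJ c.par h n) = c.el h * c.el n * (c.el h)⁻¹ := by
  rw [conjJ, ← c.el_inv, c.mul, c.mul]

theorem com_iff {n m : Fin 64} : comJ c.par n m = true ↔ c.el n * c.el m = c.el m * c.el n := by
  rw [c.mul, c.mul, c.inj.eq_iff, comJ, beq_iff_eq]

theorem el_eq_one {n : Fin 64} : c.el n = 1 ↔ n = 0 := by rw [← c.el_zero, c.inj.eq_iff]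

theorem invol_iff {n : Fin 64} : invol c.par n = true ↔ c.el n * c.el n = 1 ∧ c.el n ≠ 1 := by
  rw [invol, Bool.and_eq_true, Bool.not_eq_true', beq_eq_false_iff_ne, beq_iff_eq, c.mul, c.el_eq_one, ne_eq,
    ne_eq, c.el_eq_one]

theorem invol_of_conj {n : Fin 64} {g x : G} (hn : c.el n = g * x * g⁻¹) (hx : x * x = 1) (hx1 : x ≠ 1) :
    invol c.par n = true := by
  refine c.invol_iff.2 ⟨?_, by rwa [hn, ne_eq, conj_eq_one_iff]⟩
  rw [hn, show g * x * g⁻¹ * (g * x * g⁻¹) = g * (x * x) * g⁻¹ by group, hx]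
  group

theorem conj_rep (h n : Fin 64) : IsConj (c.el n) (c.el (conjJ c.par h n)) :=
  _root_.isConj_iff.2 ⟨c.el h, (c.el_conj h n).symm⟩

theorem card_cent (n : Fin 64) :
    Nat.card ↥(S ⊓ centralizer ({c.el n} : Set G)) = (List.finRange 64).countP (fun x => comJ c.par x n) := by
  classical
  let f : {x : Fin 64 // comJ c.par x n = true} → ↥(S ⊓ centralizer ({c.el n} : Set G)) :=
    fun x => ⟨c.el x, c.mem_el x, mem_centralizer_singleton_iff.2 (c.com_iff.1 x.2)⟩
  have hf : Function.Bijective f := by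
    refine ⟨fun a b h => Subtype.ext (c.inj (congrArg Subtype.val h)), fun x => ?_⟩
    obtain ⟨k, hk⟩ := (c.mem _).1 x.2.1
    have h2 := mem_centralizer_singleton_iff.1 x.2.2
    rw [← hk] at h2
    exact ⟨⟨k, c.com_iff.2 h2⟩, Subtype.ext hk⟩
  rw [← Nat.card_congr (Equiv.ofBijective f hf), Nat.card_eq_fintype_card, Fintype.card_subtype,
    List.countP_eq_length_filter, ← List.toFinset_card_of_nodup ((List.nodup_finRange 64).filter _),
    List.toFinset_filter, List.toFinset_finRange]

end Coord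

/-- A boolean as an element of the group of order two. -/
def bit2 (x : Bool) : Multiplicative (ZMod 2) := Multiplicative.ofAdd (if x then (1 : ZMod 2) else 0)

theorem bit2_facts : (∀ x y, bit2 (xor x y) = bit2 x * bit2 y) ∧ bit2 true ≠ 1 ∧ ∀ x, bit2 x = 1 → x = false := by
  decide

variable [Finite G] [IsSimpleGroup G] {S : Sylow 2 G} (c : Coord (S : Subgroup G))

theorem facts (P : Par) :
    (∀ n, comJ P n 4 = true) ∧ invol P 4 = true ∧ invol P 8 = true ∧ invol P 12 = true ∧ conjJ P 1 8 = 12 ∧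
      mulJ P 8 12 = 4 ∧ mulJ P 12 8 = 4 ∧ (∀ n, invol P (mulJ P n n) = true → mulJ P n n ∈ [(4 : Fin 64), 8, 12]) := by
  have h := List.all_eq_true.1 classes_ok P (mem_pars P)
  simp only [Bool.and_eq_true, List.all_eq_true, beq_iff_eq] at h
  obtain ⟨⟨⟨⟨⟨⟨-, -⟩, h3⟩, h4⟩, h5⟩, h6⟩, -⟩ := h
  refine ⟨of_t64 (List.all_eq_true.1 central_ok P (mem_pars P)), h3 4 (by simp), h3 8 (by simp), h3 12 (by simp), h4,
    h5, h6, fun n hn => ?_⟩
  have := of_t64 (List.all_eq_true.1 square_ok P (mem_pars P)) n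
  simp only [hn, Bool.not_true, Bool.false_or] at this
  exact List.contains_iff_mem.1 this

/-- The central involution is conjugate to the involution `v`. -/
theorem z_conj_v (hna : ¬ IsMulCommutative G) : IsConj (c.el 8) (c.el 4) := by
  haveI : Fact (Nat.Prime 2) := ⟨Nat.prime_two⟩
  by_contra hv
  obtain ⟨hcen, hi4, hi8, hi12, hc12, h812, h128, hsq⟩ := facts c.par
  set z := c.el 4 with hz
  have hv' : ¬ IsConj (c.el 12) z := fun h => hv ((c.conj_rep 1 8).trans (hc12 ▸ h))
  obtain ⟨hz2, hz1⟩ := c.invol_iff.1 hi4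
  have hPC : ∀ x ∈ (S : Subgroup G), x * z = z * x := fun x hx => by
    obtain ⟨n, rfl⟩ := (c.mem x).1 hx
    exact c.com_iff.1 (hcen n)
  set C := centralizer ({z} : Set G) with hC
  have hSC : (S : Subgroup G) ≤ C := fun x hx => mem_centralizer_singleton_iff.2 (hPC x hx)
  have into : ∀ R : Subgroup G, IsPGroup 2 R → R ≤ C →
      ∃ h ∈ C, ∀ x ∈ R, h * x * h⁻¹ ∈ (S : Subgroup G) := fun R hR hRC => by
    obtain ⟨⟨h, hh⟩, H⟩ := Invol.exists_conj_subset_sylow
      (hR.comap_of_injective C.subtype C.subtype_injective) (S.subtype hSC)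
    exact ⟨h, hh, fun x hx => H ⟨x, hRC hx⟩ hx⟩
  -- conjugates of `z` other than `z` have a small elementary centraliser
  have small : ∀ r : Fin 64, IsConj (c.el r) z → r ≠ 4 →
      (List.finRange 64).countP (fun x => comJ c.par x r) = 8 ∧ comJ c.par 8 r = true ∧
        ∀ x, comJ c.par x r = true → x ∈ [(0 : Fin 64), 4, 8, 12] ∨
          (invol c.par x = true ∧ IsConj (c.el x) z) := by
    intro r hr hr4
    obtain ⟨g0, hg0⟩ := _root_.isConj_iff.1 hr.symm
    have hir : invol c.par r = true := c.invol_of_conj hg0.symm hz2 hz1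
    have hr8 : r ∉ [(4 : Fin 64), 8, 12] := by
      simp only [List.mem_cons, List.not_mem_nil, or_false]
      rintro (rfl | rfl | rfl)
      exacts [hr4 rfl, hv hr, hv' hr]
    have hs := List.all_eq_true.1 (List.all_eq_true.1 small_ok c.par (mem_pars _)) r
      (List.mem_filter.2 ⟨List.mem_finRange r, hir⟩)
    simp only [Bool.or_eq_true, List.contains_iff_mem, hr8, false_or, Bool.and_eq_true, decide_eq_true_eq] at hs
    rcases hs with hs | ⟨⟨h8, hc8⟩, hall⟩
    · exfalso
      obtain ⟨w, hw⟩ := of_s64 hs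
      simp only [Bool.and_eq_true, beq_iff_eq] at hw
      obtain ⟨g, hg⟩ := _root_.isConj_iff.1 hr
      set R := ((S : Subgroup G) ⊓ centralizer ({c.el r} : Set G)).map (MulAut.conj g).toMonoidHom
      have hRC : R ≤ C := by
        rintro _ ⟨x, hx, rfl⟩
        refine mem_centralizer_singleton_iff.2 ?_
        have hx' : x * c.el r = c.el r * x := mem_centralizer_singleton_iff.1 hx.2
        show g * x * g⁻¹ * z = z * (g * x * g⁻¹)
        rw [← hg]
        calc g * x * g⁻¹ * (g * c.el r * g⁻¹) = g * (x * c.el r) * g⁻¹ := by group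
          _ = g * (c.el r * x) * g⁻¹ := by rw [hx']
          _ = _ := by group
      obtain ⟨h, hhC, hh⟩ := into R ((S.isPGroup'.to_le inf_le_left).map _) hRC
      obtain ⟨n, hn⟩ := (c.mem _).1 (hh (g * c.el w * g⁻¹)
        ⟨c.el w, ⟨c.mem_el w, mem_centralizer_singleton_iff.2 (c.com_iff.1 hw.1)⟩, rfl⟩)
      have hnn : c.el (mulJ c.par n n) = (h * g) * z * (h * g)⁻¹ := by
        rw [← c.mul, hn, hz, ← hw.2, ← c.mul]
        group
      have hmem := hsq n (c.invol_of_conj hnn hz2 hz1)
      have hcz : IsConj (c.el (mulJ c.par n n)) z := (_root_.isConj_iff.2 ⟨h * g, hnn.symm⟩ : IsConj z _).symm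
      simp only [List.mem_cons, List.not_mem_nil, or_false] at hmem
      rcases hmem with e | e | e <;> rw [e] at hcz hnn
      · have h1 : g * z * g⁻¹ = z := by
          calc g * z * g⁻¹ = h⁻¹ * (h * g * z * (h * g)⁻¹) * h := by group
            _ = h⁻¹ * (z * h) := by rw [← hnn, mul_assoc]
            _ = _ := by rw [← mem_centralizer_singleton_iff.1 hhC]; group
        refine hr4 (c.inj ?_)
        show c.el r = z
        have := hg.trans h1.symm
        rwa [mul_left_inj, mul_right_inj] at this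
      · exact hv hcz
      · exact hv' hcz
    · refine ⟨h8, hc8, fun x hx => ?_⟩
      have := of_t64 hall x
      simp only [hx, Bool.not_true, Bool.false_or, Bool.or_eq_true, List.contains_iff_mem, Bool.and_eq_true] at this
      rcases this with h | ⟨h1, h2⟩
      · exact Or.inl h
      · obtain ⟨g, hg⟩ := of_s64 h2
        exact Or.inr ⟨h1, (((beq_iff_eq.1 hg) ▸ c.conj_rep g r : IsConj (c.el r) (c.el x))).symm.trans hr⟩
  -- such a conjugate does not exist
  have none : ∀ r : Fin 64, IsConj (c.el r) z → r = 4 := by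
    intro r hr
    by_contra hr4
    obtain ⟨h8, hc8, hall⟩ := small r hr hr4
    obtain ⟨g, hg⟩ := _root_.isConj_iff.1 hr
    set E := (S : Subgroup G) ⊓ centralizer ({c.el r} : Set G) with hE
    have hRC : E.map (MulAut.conj g).toMonoidHom ≤ C := by
      rintro _ ⟨x, hx, rfl⟩
      refine mem_centralizer_singleton_iff.2 ?_
      have hx' : x * c.el r = c.el r * x := mem_centralizer_singleton_iff.1 hx.2
      show g * x * g⁻¹ * z = z * (g * x * g⁻¹)
      rw [← hg]
      calc g * x * g⁻¹ * (g * c.el r * g⁻¹) = g * (x * c.el r) * g⁻¹ := by group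
        _ = g * (c.el r * x) * g⁻¹ := by rw [hx']
        _ = _ := by group
    obtain ⟨h, hhC, hh⟩ := into _ ((S.isPGroup'.to_le inf_le_left).map _) hRC
    set k := h * g with hk
    have hkr : k * c.el r * k⁻¹ = z := by
      rw [hk, show h * g * c.el r * (h * g)⁻¹ = h * (g * c.el r * g⁻¹) * h⁻¹ by group, hg,
        mem_centralizer_singleton_iff.1 hhC]
      group
    set T := (S : Subgroup G).comap (MulAut.conj k).toMonoidHom with hT
    have hET : E ≤ T := fun x hx => by
      show k * x * k⁻¹ ∈ (S : Subgroup G)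
      rw [hk, show h * g * x * (h * g)⁻¹ = h * (g * x * g⁻¹) * h⁻¹ by group]
      exact hh _ ⟨x, hx, rfl⟩
    have hTp : IsPGroup 2 T := S.isPGroup'.comap_of_injective _ (MulEquiv.injective _)
    have hTr : ∀ p ∈ T, p * c.el r = c.el r * p := by
      intro p hp
      have h1 := hPC _ (show k * p * k⁻¹ ∈ (S : Subgroup G) from hp)
      rw [← hkr] at h1
      calc p * c.el r = k⁻¹ * (k * p * k⁻¹ * (k * c.el r * k⁻¹)) * k := by group
        _ = k⁻¹ * (k * c.el r * k⁻¹ * (k * p * k⁻¹)) * k := by rw [h1]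
        _ = c.el r * p := by group
    have hcT : Nat.card T = 64 := by
      rw [hT, Nat.card_congr ((MulAut.conj k).toEquiv.subtypeEquiv fun _ => Iff.rfl :
        ↥((S : Subgroup G).comap (MulAut.conj k).toMonoidHom) ≃ ↥(S : Subgroup G))]
      let f : Fin 64 → ↥(S : Subgroup G) := fun n => ⟨c.el n, c.mem_el n⟩
      have hf : Function.Bijective f := ⟨fun a b h => c.inj (congrArg Subtype.val h), fun x => by
        obtain ⟨n, hn⟩ := (c.mem _).1 x.2
        exact ⟨n, Subtype.ext hn⟩⟩
      rw [← Nat.card_congr (Equiv.ofBijective f hf), Nat.card_fin]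
    have hcE : Nat.card E = 8 := by rw [hE, c.card_cent, h8]
    have hne : E.subgroupOf T ≠ ⊤ := fun e => by
      have := Subgroup.card_le_of_le (subgroupOf_eq_top.1 e)
      omega
    haveI : Group.IsNilpotent T := hTp.isNilpotent
    obtain ⟨⟨p, hpT⟩, hpN, hpE⟩ := SetLike.exists_of_lt
      (Group.normalizerCondition_of_isNilpotent (E.subgroupOf T) hne.lt_top)
    rw [mem_subgroupOf] at hpE
    have hperm : ∀ a ∈ [(8 : Fin 64), 12],
        p * c.el a * p⁻¹ = c.el 8 ∨ p * c.el a * p⁻¹ = c.el 12 := by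
      intro a ha
      have haz : ¬ IsConj (c.el a) z ∧ comJ c.par a r = true ∧ invol c.par a = true := by
        rcases (by simpa using ha : a = 8 ∨ a = 12) with rfl | rfl
        · exact ⟨hv, hc8, hi8⟩
        · refine ⟨hv', c.com_iff.2 ?_, hi12⟩
          have h1 : c.el 12 = c.el 8 * z := by
            have h2 := congrArg c.el h812
            rw [← c.mul] at h2
            rw [hz, ← h2, ← mul_assoc, (c.invol_iff.1 hi8).1, one_mul]
          rw [h1, mul_assoc, ← hPC _ (c.mem_el r), ← mul_assoc, c.com_iff.1 hc8, mul_assoc]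
      have haE : c.el a ∈ E := ⟨c.mem_el a, mem_centralizer_singleton_iff.2 (c.com_iff.1 haz.2.1)⟩
      have himg : p * c.el a * p⁻¹ ∈ E := (mem_normalizer_iff.1 hpN ⟨c.el a, hET haE⟩).1 haE
      obtain ⟨n, hn⟩ := (c.mem _).1 himg.1
      have hcr : comJ c.par n r = true := c.com_iff.2 (by rw [hn]; exact mem_centralizer_singleton_iff.1 himg.2)
      have hconj : IsConj (c.el a) (c.el n) := _root_.isConj_iff.2 ⟨p, hn.symm⟩
      have hn0 : c.el n ≠ 1 := by rw [hn, ne_eq, conj_eq_one_iff]; exact (c.invol_iff.1 haz.2.2).2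
      rcases hall n hcr with h | ⟨-, h⟩
      · simp only [List.mem_cons, List.not_mem_nil, or_false] at h
        rcases h with e | e | e | e <;> rw [e] at hn hn0 hconj
        · exact absurd c.el_zero hn0
        · exact absurd hconj haz.1
        · exact Or.inl hn.symm
        · exact Or.inr hn.symm
      · exact absurd (hconj.trans h) haz.1
    have hpz : p * z * p⁻¹ = z := by
      have h1 : p * z * p⁻¹ = (p * c.el 8 * p⁻¹) * (p * c.el 12 * p⁻¹) := by
        rw [show p * c.el 8 * p⁻¹ * (p * c.el 12 * p⁻¹) = p * (c.el 8 * c.el 12) * p⁻¹ by group, c.mul, h812]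
      have hne' : p * c.el 8 * p⁻¹ ≠ p * c.el 12 * p⁻¹ := by
        rw [ne_eq, mul_left_inj, mul_right_inj, c.inj.eq_iff]; decide
      rw [h1]
      rcases hperm 8 (by simp) with ha | ha <;> rcases hperm 12 (by simp) with hb | hb
      · exact absurd (ha.trans hb.symm) hne'
      · rw [ha, hb, c.mul, h812]
      · rw [ha, hb, c.mul, h128]
      · exact absurd (ha.trans hb.symm) hne'
    set X := E ⊔ zpowers p with hX
    have hXT : X ≤ T := sup_le hET (zpowers_le.2 hpT)
    have hXC : X ≤ C := sup_le (fun x hx => mem_centralizer_singleton_iff.2 (hPC x hx.1))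
      (zpowers_le.2 (mem_centralizer_singleton_iff.2 (mul_inv_eq_iff_eq_mul.1 hpz)))
    obtain ⟨h', hh'C, hh'⟩ := into X (hTp.to_le hXT) hXC
    have hrE : c.el r ∈ E := ⟨c.mem_el r, mem_centralizer_singleton_iff.2 rfl⟩
    obtain ⟨r', hr'⟩ := (c.mem _).1 (hh' _ (le_sup_left (a := E) (b := zpowers p) hrE))
    have hrr : IsConj (c.el r') z := ((_root_.isConj_iff.2 ⟨h', hr'.symm⟩ : IsConj (c.el r) (c.el r'))).symm.trans hr
    have hr'4 : r' ≠ 4 := fun e => hr4 (c.inj (by
      rw [e] at hr'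
      show c.el r = z
      calc c.el r = h'⁻¹ * (h' * c.el r * h'⁻¹) * h' := by group
        _ = h'⁻¹ * (z * h') := by rw [← hr', ← hz, mul_assoc]
        _ = z := by rw [← mem_centralizer_singleton_iff.1 hh'C]; group))
    have hle : Nat.card X ≤ 8 := by
      rw [← (small r' hrr hr'4).1, ← c.card_cent,
        ← Subgroup.card_map_of_injective (f := (MulAut.conj h').toMonoidHom) (MulAut.conj h').injective]
      refine Subgroup.card_le_of_le ?_
      rintro _ ⟨x, hx, rfl⟩
      refine ⟨hh' x hx, mem_centralizer_singleton_iff.2 ?_⟩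
      show h' * x * h'⁻¹ * c.el r' = c.el r' * (h' * x * h'⁻¹)
      rw [hr']
      calc h' * x * h'⁻¹ * (h' * c.el r * h'⁻¹) = h' * (x * c.el r) * h'⁻¹ := by group
        _ = h' * (c.el r * x) * h'⁻¹ := by rw [hTr x (hXT hx)]
        _ = _ := by group
    have : E = X := Subgroup.eq_of_le_of_card_ge le_sup_left (by omega)
    exact hpE (this ▸ (le_sup_right : zpowers p ≤ X) (mem_zpowers p))
  -- so `z` is isolated
  have hzo : orderOf z = 2 := Invol.orderOf_two_iff.2 ⟨hz2, hz1⟩
  have hiso := ZStar.isIsolated_of_sylow (P := S) (c.mem_el 4) hzo fun g hg => by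
    obtain ⟨n, hn⟩ := (c.mem _).1 hg
    have : n = 4 := none n ((_root_.isConj_iff.2 ⟨g, hn.symm⟩ : IsConj z (c.el n))).symm
    rw [← hn, this]
  obtain ⟨N, hN, hNodd, hNc⟩ := ZStar.exists_odd_normal hiso
  rcases IsSimpleGroup.eq_bot_or_eq_top_of_normal N hN with rfl | rfl
  · rcases IsSimpleGroup.eq_bot_or_eq_top_of_normal (center G) inferInstance with h | h
    · refine hz1 ((Subgroup.mem_bot).1 (h ▸ mem_center_iff.2 fun g => ?_))
      exact (mul_inv_eq_iff_eq_mul.1 (mul_inv_eq_one.1 (mem_bot.1 (hNc g)))).symm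
    · exact hna ⟨⟨fun a b => (mem_center_iff.1 (h ▸ mem_top b) a)⟩⟩
  · rw [Subgroup.card_top] at hNodd
    exact (Nat.not_even_iff_odd.2 hNodd) (even_iff_two_dvd.2 (hzo ▸ orderOf_dvd_natCard _))

/-- With two classes of involutions the parameters vanish. -/
theorem par_eq (hna : ¬ IsMulCommutative G) (htwo : ∃ s t : G, orderOf s = 2 ∧ orderOf t = 2 ∧ ¬ IsConj s t) :
    c.par = (false, false, false) := by
  classical
  haveI : Fact (Nat.Prime 2) := ⟨Nat.prime_two⟩
  by_contra hpar
  obtain ⟨hcen, hi4, hi8, hi12, hc12, -, -, -⟩ := facts c.par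
  have hv := z_conj_v c hna
  set bs := (classes c.par).map fun l => decide (IsConj (c.el (l.headD 0)) (c.el 4)) with hbs
  set Z := zSet c.par bs with hZdef
  have hcl := List.all_eq_true.1 classes_ok c.par (mem_pars _)
  simp only [Bool.and_eq_true, List.all_eq_true, Bool.or_eq_true, List.contains_iff_mem, List.any_eq_true] at hcl
  obtain ⟨⟨⟨⟨⟨⟨hcls, hcov⟩, -⟩, -⟩, -⟩, -⟩, -⟩ := hcl
  have hZinv : ∀ n ∈ Z, invol c.par n = true := by
    intro n hn
    simp only [hZdef, zSet, List.mem_append, List.mem_flatMap, List.mem_filter] at hn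
    rcases hn with h | ⟨⟨l, b⟩, ⟨hlb, -⟩, hnl⟩
    · rcases (by simpa using h : n = 4 ∨ n = 8 ∨ n = 12) with rfl | rfl | rfl
      exacts [hi4, hi8, hi12]
    · exact ((hcls l (List.of_mem_zip hlb).1).2 n hnl).1
  have hrep : ∀ l ∈ classes c.par, ∀ x ∈ l, IsConj (c.el (l.headD 0)) (c.el x) := fun l hl x hx => by
    obtain ⟨g, hg⟩ := of_s64 ((hcls l hl).2 x hx).2
    exact (beq_iff_eq.1 hg) ▸ c.conj_rep g _
  have hzip : (classes c.par).zip bs =
      (classes c.par).map fun l => (l, decide (IsConj (c.el (l.headD 0)) (c.el 4))) := by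
    rw [hbs]
    generalize classes c.par = L
    induction L with
    | nil => rfl
    | cons a L ih => simp only [List.map_cons, List.zip_cons_cons, ih]
  have hZ : ∀ n, invol c.par n = true → (n ∈ Z ↔ IsConj (c.el n) (c.el 4)) := by
    intro n hn
    have hmem : n ∈ Z ↔ n ∈ [(4 : Fin 64), 8, 12] ∨ ∃ l ∈ classes c.par,
        IsConj (c.el (l.headD 0)) (c.el 4) ∧ n ∈ l := by
      simp only [hZdef, zSet, List.mem_append, List.mem_flatMap, List.mem_filter, hzip, List.mem_map]
      refine or_congr Iff.rfl ⟨?_, ?_⟩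
      · rintro ⟨_, ⟨⟨l, hl, rfl⟩, hd⟩, hnl⟩
        exact ⟨l, hl, by simpa using hd, hnl⟩
      · rintro ⟨l, hl, hd, hnl⟩
        exact ⟨_, ⟨⟨l, hl, rfl⟩, by simpa using hd⟩, hnl⟩
    rw [hmem]
    constructor
    · rintro (h | ⟨l, hl, hd, hnl⟩)
      · rcases (by simpa using h : n = 4 ∨ n = 8 ∨ n = 12) with rfl | rfl | rfl
        · exact IsConj.refl _
        · exact hv
        · exact (hc12 ▸ c.conj_rep 1 8 : IsConj (c.el 8) (c.el 12)).symm.trans hv
      · exact (hrep l hl n hnl).symm.trans hd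
    · intro h
      rcases hcov n (List.mem_filter.2 ⟨List.mem_finRange n, hn⟩) with h' | ⟨l, hl, hnl⟩
      · exact Or.inl h'
      · exact Or.inr ⟨l, hl, (hrep l hl n hnl).trans h, hnl⟩
  have hsomeinv : ∀ g : G, orderOf g = 2 → ∃ n, invol c.par n = true ∧ IsConj g (c.el n) := by
    intro g hg
    obtain ⟨x, hx⟩ := Invol.exists_conj_mem_sylow (n := 1) (by rw [hg, pow_one]) S
    obtain ⟨n, hn⟩ := (c.mem _).1 hx
    obtain ⟨h1, h2⟩ := Invol.orderOf_two_iff.1 hg
    exact ⟨n, c.invol_of_conj hn h1 h2, _root_.isConj_iff.2 ⟨x, hn.symm⟩⟩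
  have hnall : ¬ ∀ n, invol c.par n = true → n ∈ Z := fun hall => by
    obtain ⟨s, t, hs, ht, hst⟩ := htwo
    obtain ⟨a, ha, hsa⟩ := hsomeinv s hs
    obtain ⟨b, hb, htb⟩ := hsomeinv t ht
    exact hst ((hsa.trans ((hZ a ha).1 (hall a ha))).trans (htb.trans ((hZ b hb).1 (hall b hb))).symm)
  have hv0 := List.all_eq_true.1 verdicts c.par (mem_pars _)
  simp only [Bool.or_eq_true, beq_iff_eq, hpar, false_or, List.all_eq_true] at hv0
  have hverd := hv0 bs (by rw [hbs, ← List.length_map (f := fun l => decide (IsConj (c.el (List.headD l 0)) (c.el 4)))]; exact mem_boolLists _)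
  rw [verdict, ← hZdef] at hverd
  simp only [Bool.or_eq_true, List.all_eq_true, List.contains_iff_mem, List.any_eq_true, Bool.and_eq_true,
    beq_iff_eq] at hverd
  rcases hverd with (hall | hclosed) | ⟨⟨bs', w, u⟩, -, -, hobs⟩
  · exact hnall fun n hn => hall n (List.mem_filter.2 ⟨List.mem_finRange n, hn⟩)
  · -- strongly closed elementary abelian
    simp only [closedJ, Bool.and_eq_true, List.all_eq_true, List.contains_iff_mem, beq_iff_eq] at hclosed
    obtain ⟨-, hops⟩ := hclosed
    set L := (0 : Fin 64) :: Z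
    let A : Subgroup G :=
      { carrier := {g | ∃ n ∈ L, c.el n = g}
        one_mem' := ⟨0, List.mem_cons_self, c.el_zero⟩
        mul_mem' := by
          rintro _ _ ⟨a, ha, rfl⟩ ⟨b, hb, rfl⟩
          exact ⟨_, ((hops a ha).2 b hb).2, (c.mul a b).symm⟩
        inv_mem' := by
          rintro _ ⟨a, ha, rfl⟩
          exact ⟨a, ha, eq_inv_of_mul_eq_one_left (by rw [c.mul, (hops a ha).1, c.el_zero])⟩ }
    have hA : Cfsg.IsElementaryAbelian 2 A := by
      refine ⟨⟨⟨?_⟩⟩, ?_⟩
      · rintro ⟨_, a, ha, rfl⟩ ⟨_, b, hb, rfl⟩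
        exact Subtype.ext (c.com_iff.1 ((hops a ha).2 b hb).1)
      · rintro _ ⟨a, ha, rfl⟩
        rw [pow_two, c.mul, (hops a ha).1, c.el_zero]
    have h4Z : (4 : Fin 64) ∈ Z := (hZ 4 hi4).2 (IsConj.refl _)
    have hne : A ≠ ⊥ := fun e => by
      have h1 : c.el 4 ∈ A := ⟨4, List.mem_cons_of_mem _ h4Z, rfl⟩
      rw [e, mem_bot, c.el_eq_one] at h1
      exact absurd h1 (by decide)
    have hsc : Cfsg.IsStronglyClosed A (S : Subgroup G) := by
      refine ⟨?_, ?_⟩
      · rintro _ ⟨a, -, rfl⟩; exact c.mem_el a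
      rintro _ ⟨a, ha, rfl⟩ g hg
      obtain ⟨n, hn⟩ := (c.mem _).1 hg
      rcases List.mem_cons.1 ha with rfl | haZ
      · rw [c.el_zero, mul_one, mul_inv_cancel]; exact one_mem _
      · obtain ⟨h1, h2⟩ := c.invol_iff.1 (hZinv a haZ)
        exact ⟨n, List.mem_cons_of_mem _ ((hZ n (c.invol_of_conj hn h1 h2)).2
          ((_root_.isConj_iff.2 ⟨g, hn.symm⟩ : IsConj (c.el a) (c.el n)).symm.trans ((hZ a (hZinv a haZ)).1 haZ))), hn⟩
    refine hnall fun n hn => ?_
    obtain ⟨h1, -⟩ := c.invol_iff.1 hn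
    obtain ⟨m, hm, hm'⟩ := (Fus.Gold.conclusion_all G inferInstance hna S A hne hA hsc).2.1 _ (c.mem_el n) h1
    rcases List.mem_cons.1 hm with rfl | hmZ
    · exact absurd (c.inj hm').symm (fun e => (c.invol_iff.1 hn).2 (by rw [e, c.el_zero]))
    · exact c.inj hm' ▸ hmZ
  · -- transfer
    simp only [obstruct, Bool.and_eq_true, List.all_eq_true, Bool.or_eq_true, Bool.not_eq_true'] at hobs
    obtain ⟨⟨hui, huw⟩, hobs⟩ := hobs
    have hex : ∀ x : ↥(S : Subgroup G), ∃ n, c.el n = (x : G) := fun x => (c.mem _).1 x.2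
    choose idx hidx using hex
    have hidx' : ∀ n h, idx ⟨c.el n, h⟩ = n := fun n h => c.inj (hidx ⟨c.el n, h⟩)
    have hmul : ∀ x y, idx (x * y) = mulJ c.par (idx x) (idx y) := fun x y => c.inj (by
      rw [hidx, ← c.mul, hidx, hidx]; rfl)
    have hchi : ∀ n m, chi w (mulJ c.par n m) = xor (chi w n) (chi w m) := fun n m => by
      have := of_t64 (of_t64 (List.all_eq_true.1 bits_ok c.par (mem_pars _)) n) m
      simp only [Bool.and_eq_true, beq_iff_eq] at this
      obtain ⟨⟨h1, h2⟩, h3⟩ := this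
      simp only [chi, h1, h2, h3]
      cases w.1 <;> cases w.2.1 <;> cases w.2.2 <;> cases bitF n <;> cases bitB n <;> cases bitC n <;>
        cases bitF m <;> cases bitB m <;> cases bitC m <;> rfl
    let φ : ↥(S : Subgroup G) →* Multiplicative (ZMod 2) :=
      MonoidHom.mk' (fun x => bit2 (chi w (idx x))) fun x y => by
        show bit2 _ = _
        rw [hmul, hchi, bit2_facts.1]
    obtain ⟨x, y, hy, hφ, hc⟩ := transfer_fuse hna S φ (u := ⟨c.el u, c.mem_el u⟩)
      (Subtype.ext (c.invol_iff.1 hui).1) (by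
        show bit2 _ ≠ 1
        rw [hidx', huw]; exact bit2_facts.2.1)
    set v := idx y with hvdef
    have hyv : c.el v = x⁻¹ * c.el u * x⁻¹⁻¹ := by rw [inv_inv, hvdef, hidx, hy]
    have hvi : invol c.par v = true := c.invol_of_conj hyv (c.invol_iff.1 hui).1 (c.invol_iff.1 hui).2
    have hvk : chi w v = false := bit2_facts.2.2 _ hφ
    have huv : IsConj (c.el u) (c.el v) := _root_.isConj_iff.2 ⟨x⁻¹, hyv.symm⟩
    have hst : Z.contains u = Z.contains v := Bool.eq_iff_iff.2 (by
      rw [List.contains_iff_mem, List.contains_iff_mem, hZ u hui, hZ v hvi]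
      exact ⟨huv.symm.trans, huv.trans⟩)
    have hmap : ∀ n, ∃ k, comJ c.par n u = true → c.el k = x⁻¹ * c.el n * x⁻¹⁻¹ := fun n => by
      by_cases hn : comJ c.par n u = true
      · obtain ⟨k, hk⟩ := (c.mem _).1 (hc ⟨c.el n, c.mem_el n⟩ (Subtype.ext (c.com_iff.1 hn)))
        exact ⟨k, fun _ => by rw [hk, inv_inv]⟩
      · exact ⟨0, fun e => absurd e hn⟩
    choose m hm using hmap
    have hcount : ∀ L : List (Fin 64), L.Nodup → (∀ n ∈ L, comJ c.par n u = true → m n ∈ L) →
        cntIn c.par L u ≤ cntIn c.par L v := by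
      intro L hL hstab
      rw [cntIn, cntIn, List.countP_eq_length_filter, List.countP_eq_length_filter,
        ← List.toFinset_card_of_nodup (hL.filter _), ← List.toFinset_card_of_nodup (hL.filter _)]
      refine Finset.card_le_card_of_injOn m (fun n hn => ?_) fun n hn n' hn' e => ?_
      · simp only [List.coe_toFinset, List.mem_filter, Set.mem_setOf_eq] at hn ⊢
        refine ⟨hstab n hn.1 hn.2, c.com_iff.2 ?_⟩
        rw [hm n hn.2, hyv]
        have := c.com_iff.1 hn.2
        calc x⁻¹ * c.el n * x⁻¹⁻¹ * (x⁻¹ * c.el u * x⁻¹⁻¹) = x⁻¹ * (c.el n * c.el u) * x := by group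
          _ = x⁻¹ * (c.el u * c.el n) * x := by rw [this]
          _ = _ := by group
      · simp only [List.coe_toFinset, List.mem_filter, Set.mem_setOf_eq] at hn hn'
        have := congrArg c.el e
        rw [hm n hn.2, hm n' hn'.2, mul_left_inj, mul_right_inj] at this
        exact c.inj this
    have hconj : ∀ n, comJ c.par n u = true → invol c.par n = true →
        invol c.par (m n) = true ∧ (m n ∈ Z ↔ n ∈ Z) := fun n hn hni => by
      obtain ⟨h1, h2⟩ := c.invol_iff.1 hni
      have hmi := c.invol_of_conj (hm n hn) h1 h2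
      have hc' : IsConj (c.el n) (c.el (m n)) := _root_.isConj_iff.2 ⟨x⁻¹, (hm n hn).symm⟩
      exact ⟨hmi, by rw [hZ _ hmi, hZ n hni]; exact ⟨hc'.trans, hc'.symm.trans⟩⟩
    have hZnd : Z.Nodup := by
      have : pars.all (fun P => (boolLists (classes P).length).all fun l => decide (zSet P l).Nodup) = true := by
        decide +kernel
      have h1 := List.all_eq_true.1 (List.all_eq_true.1 this c.par (mem_pars _)) bs
        (by rw [hbs, ← List.length_map (f := fun l => decide (IsConj (c.el (List.headD l 0)) (c.el 4)))]; exact mem_boolLists _)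
      exact of_decide_eq_true h1
    have hc1 : cntIn c.par Z u ≤ cntIn c.par Z v :=
      hcount Z hZnd fun n hn hn' => ((hconj n hn' (hZinv n hn)).2).2 hn
    have hc2 : cntIn c.par (nonZ c.par Z) u ≤ cntIn c.par (nonZ c.par Z) v := by
      refine hcount _ (((List.nodup_finRange 64).filter _).filter _) fun n hn hn' => ?_
      simp only [nonZ, invs, List.mem_filter, List.mem_finRange, true_and, Bool.not_eq_true', ← Bool.not_eq_true,
        List.contains_iff_mem] at hn ⊢
      obtain ⟨h1, h2⟩ := hconj n hn' hn.1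
      exact ⟨h1, fun e => hn.2 (h2.1 e)⟩
    have hob := hobs v (List.mem_filter.2 ⟨List.mem_finRange v, hvi⟩)
    rw [hvk, hst] at hob
    simp [hc1, hc2] at hob

end Cfsg.Agent.Invol.SelfEightType
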