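import Cfsg.Agent.Lib.Invol.TwelveType.Facts

/-!
The groups of order 64 with a self-centralising element `f` of order 8 conjugate to its odd powers, on
indices `i + 8 e + 16 β + 32 γ` standing for `f ^ i * v ^ e * b ^ β * c ^ γ`.
-/

set_option autoImplicit false
set_option maxRecDepth 100000

namespace Cfsg.Agent.Invol.SelfEightType

open Cfsg.Agent.Invol.TwelveType (t64 s64)

/-- The parameters: whether `b ^ 2 = z`, whether `c ^ 2 = z`, and the twist of `c b`. -/
abbrev Par := Bool × Bool × Bool

/-- Multiplication of indices. -/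
def mulJ (P : Par) (n k : Fin 64) : Fin 64 :=
  let i := n.val % 8
  let e := n.val / 8 % 2
  let B := n.val / 16 % 2
  let C := n.val / 32
  let j := k.val % 8
  let d := k.val / 8 % 2
  let B' := k.val / 16 % 2
  let C' := k.val / 32
  let j1 := if C = 1 then 6 * (j / 2) + j % 2 else j
  let d1 := if C = 1 then d + j % 2 else d
  let j2 := if B = 1 then 7 * j1 else j1
  let r := i + j2 * (if e = 1 then 5 else 1)
  let re := (e + d1) % 2
  let K := if P.2.2 then (if B = 1 then 7 * 2 else 2) else 0
  let r1 := if C = 1 ∧ B' = 1 then r + K * (if re = 1 then 5 else 1) else r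
  let re1 := if C = 1 ∧ B' = 1 then re + 1 else re
  let zb := if P.1 = true ∧ B + B' = 2 then 4 else 0
  let zc := if P.2.1 = true ∧ C + C' = 2 then 4 else 0
  ⟨((r1 + zb + zc) % 8 + 8 * (re1 % 2) + 16 * ((B + B') % 2) + 32 * ((C + C') % 2)) % 64, Nat.mod_lt _ (by norm_num)⟩

/-- Inversion of indices. -/
def invJ (P : Par) (n : Fin 64) : Fin 64 :=
  let a := mulJ P n n
  let b := mulJ P a a
  mulJ P (mulJ P b a) n

/-- Commuting indices. -/
def comJ (P : Par) (n m : Fin 64) : Bool := mulJ P n m == mulJ P m n

/-- Conjugation of indices. -/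
def conjJ (P : Par) (h n : Fin 64) : Fin 64 := mulJ P (mulJ P h n) (invJ P h)

/-- The parity of the exponent of `f`. -/
def bitF (n : Fin 64) : Bool := n.val % 2 == 1

/-- The exponent of `b`. -/
def bitB (n : Fin 64) : Bool := n.val / 16 % 2 == 1

/-- The exponent of `c`. -/
def bitC (n : Fin 64) : Bool := n.val / 32 == 1

/-- A character. -/
def chi (w : Bool × Bool × Bool) (n : Fin 64) : Bool :=
  xor (xor (w.1 && bitF n) (w.2.1 && bitB n)) (w.2.2 && bitC n)

/-- All parameters. -/
def pars : List Par :=
  [(false, false, false), (false, false, true), (false, true, false), (false, true, true), (true, false, false),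
    (true, false, true), (true, true, false), (true, true, true)]

theorem mem_pars : ∀ P : Par, P ∈ pars := by decide

theorem inv_ok : pars.all (fun P => t64 fun n => mulJ P n (invJ P n) == 0 && mulJ P (invJ P n) n == 0) = true := by
  decide +kernel

theorem bits_ok : pars.all (fun P => t64 fun n => t64 fun m =>
    bitF (mulJ P n m) == xor (bitF n) (bitF m) && bitB (mulJ P n m) == xor (bitB n) (bitB m) &&
      bitC (mulJ P n m) == xor (bitC n) (bitC m)) = true := by
  decide +kernel

end Cfsg.Agent.Invol.SelfEightType
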